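import Groth.Agent.QGorD.Basic
import Mathlib.RingTheory.Localization.AtPrime.Basic
import Mathlib.RingTheory.Support

/-!
Serre conditions of kernels and reflexive modules; reflexivity from depth.
-/

universe u

open Pointwise

namespace Groth.Agent.QGorD

variable {A : Type u} [CommRing A]

theorem mem_support_localized_iff (p : Ideal A) [p.IsPrime] {M : Type u} [AddCommGroup M] [Module A M]
    (q : PrimeSpectrum (Localization.AtPrime p)) :
    q ∈ Module.support (Localization.AtPrime p) (LocalizedModule p.primeCompl M) ↔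
      PrimeSpectrum.comap (algebraMap A (Localization.AtPrime p)) q ∈ Module.support A M := by
  rw [Module.mem_support_iff', Module.mem_support_iff']
  have hsmul : ∀ (r : A) (z : LocalizedModule p.primeCompl M),
      algebraMap A (Localization.AtPrime p) r • z = r • z := fun r z => algebraMap_smul _ r z
  constructor
  · rintro ⟨z, hz⟩
    induction z using LocalizedModule.induction_on with
    | h g s =>
      refine ⟨g, fun r hr h0 => hz (algebraMap A _ r) hr ?_⟩
      rw [hsmul, LocalizedModule.smul'_mk, h0, LocalizedModule.zero_mk]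
  · rintro ⟨g, hg⟩
    refine ⟨LocalizedModule.mkLinearMap p.primeCompl M g, fun a ha h0 => ?_⟩
    obtain ⟨⟨r, t⟩, hrt⟩ := IsLocalization.surj p.primeCompl a
    have h1 : r • LocalizedModule.mkLinearMap p.primeCompl M g = 0 := by
      rw [← hsmul, ← hrt, mul_comm, mul_smul, h0, smul_zero]
    rw [← map_smul, ← map_zero (LocalizedModule.mkLinearMap p.primeCompl M)] at h1
    obtain ⟨v, hv⟩ := IsLocalizedModule.exists_of_eq (S := p.primeCompl) h1
    rw [smul_zero, Submonoid.smul_def, smul_smul] at hv
    refine hg _ (fun hmem => ?_) hv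
    have hu : ∀ v : p.primeCompl, algebraMap A (Localization.AtPrime p) (v : A) ∉ q.asIdeal := fun v h =>
      q.2.ne_top (Ideal.eq_top_of_isUnit_mem _ h (IsLocalization.map_units _ v))
    rcases q.2.mem_or_mem ((map_mul (algebraMap A (Localization.AtPrime p)) (v : A) r).symm ▸
      (show algebraMap A (Localization.AtPrime p) ((v : A) * r) ∈ q.asIdeal from hmem)) with h | h
    · exact hu v h
    · rw [← hrt] at h
      rcases q.2.mem_or_mem h with h | h
      · exact ha h
      · exact hu t h

theorem supportDim_localized_mono (p : Ideal A) [p.IsPrime] {M N : Type u} [AddCommGroup M] [Module A M]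
    [AddCommGroup N] [Module A N] (h : Module.support A M ⊆ Module.support A N) :
    Module.supportDim (Localization.AtPrime p) (LocalizedModule p.primeCompl M) ≤
      Module.supportDim (Localization.AtPrime p) (LocalizedModule p.primeCompl N) :=
  Order.krullDim_le_of_strictMono
    (fun q => (⟨q.1, (mem_support_localized_iff p q.1).2 (h ((mem_support_localized_iff p q.1).1 q.2))⟩ :
      ↥(Module.support (Localization.AtPrime p) (LocalizedModule p.primeCompl N))))
    fun _ _ hab => hab

variable [IsNoetherianRing A]

theorem le_depth_of_le_min {k n : ℕ} {d : WithBot ℕ∞} {e : ℕ∞} (h : min (k : WithBot ℕ∞) d ≤ (e : WithBot ℕ∞))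
    (hnk : n ≤ k) (hnd : (n : WithBot ℕ∞) ≤ d) : (n : ℕ∞) ≤ e := by
  have : (n : WithBot ℕ∞) ≤ min (k : WithBot ℕ∞) d := le_min (by exact_mod_cast hnk) hnd
  exact WithBot.coe_le_coe.mp (this.trans h)

theorem min_le_of_forall {k : ℕ} (hk : k ≤ 2) {d : WithBot ℕ∞} {e : ℕ∞}
    (h : ∀ n : ℕ, n ≤ k → 1 ≤ n → (n : WithBot ℕ∞) ≤ d → (n : ℕ∞) ≤ e) :
    min (k : WithBot ℕ∞) d ≤ (e : WithBot ℕ∞) := by
  cases d with
  | bot => simp
  | coe v =>
    rw [show (k : WithBot ℕ∞) = ((k : ℕ∞) : WithBot ℕ∞) from rfl, ← WithBot.coe_min, WithBot.coe_le_coe]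
    refine ENat.forall_natCast_le_iff_le.1 fun n hn => ?_
    rcases Nat.eq_zero_or_pos n with rfl | hpos
    · simp
    · obtain ⟨h1, h2⟩ := le_min_iff.mp hn
      refine h n (by exact_mod_cast h1) hpos ?_
      exact WithBot.coe_le_coe.mpr h2

section

variable {G E0 E1 : Type u} [AddCommGroup G] [Module A G] [Module.Finite A G]
  [AddCommGroup E0] [Module A E0] [Module.Finite A E0] [AddCommGroup E1] [Module A E1] [Module.Finite A E1]
  {i : G →ₗ[A] E0} (hi : Function.Injective i) {u : E0 →ₗ[A] E1} (hu : Function.Exact i u)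
include hi

theorem hasSk_one_of_injective (h : LocCoh.HasSk 1 A E0) : LocCoh.HasSk 1 A G := by
  intro p hp
  refine min_le_of_forall (by omega) fun n hn hn1 hnd => ?_
  obtain rfl : n = 1 := by omega
  have hinj := LocalizedModule.map_injective p.primeCompl i hi
  have h0 := le_depth_of_le_min (h p) le_rfl (hnd.trans (Module.supportDim_le_of_injective _ hinj))
  exact_mod_cast one_le_of_injective _ hinj (by exact_mod_cast h0)

include hu in
theorem hasSk_two_of_kernel (hsupp : Module.support A G ⊆ Module.support A E1) (h1 : LocCoh.HasSk 1 A E1)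
    (h2 : LocCoh.HasSk 2 A E0) : LocCoh.HasSk 2 A G := by
  intro p hp
  refine min_le_of_forall le_rfl fun n hn hn1 hnd => ?_
  have hinj := LocalizedModule.map_injective p.primeCompl i hi
  have hex : Function.Exact (LocalizedModule.map p.primeCompl i) (LocalizedModule.map p.primeCompl u) :=
    LocalizedModule.map_exact p.primeCompl i u hu
  have h0 := le_depth_of_le_min (h2 p) hn (hnd.trans (Module.supportDim_le_of_injective _ hinj))
  match n, hn, hn1 with
  | 1, _, _ => exact_mod_cast one_le_of_injective _ hinj (by exact_mod_cast h0)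
  | 2, _, _ =>
    have he1 := le_depth_of_le_min (n := 1) (h1 p) le_rfl
      (le_trans (by exact_mod_cast (by omega : 1 ≤ 2)) (hnd.trans (supportDim_localized_mono p hsupp)))
    exact_mod_cast two_le_of_kernel _ hinj _ hex (by exact_mod_cast h0) (by exact_mod_cast he1)

end

theorem min_le_depth_of_isReflexive {R : Type u} [CommRing R] [IsNoetherianRing R] [IsLocalRing R]
    {k : ℕ} (hk : k ≤ 2) (h : min (k : WithBot ℕ∞) (ringKrullDim R) ≤ ((LocCoh.depth R R : ℕ∞) : WithBot ℕ∞))
    (M : Type u) [AddCommGroup M] [Module R M] [Module.Finite R M] [Module.IsReflexive R M] :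
    min (k : WithBot ℕ∞) (Module.supportDim R M) ≤ ((LocCoh.depth R M : ℕ∞) : WithBot ℕ∞) :=
  min_le_of_forall hk fun n hn _ hnd => le_idealDepth_of_isReflexive M n (hn.trans hk)
    (le_depth_of_le_min h hn (hnd.trans (Module.supportDim_le_ringKrullDim R M)))

theorem min_le_depth_localization {k : ℕ} (hA : LocCoh.HasSk k A A) (p : Ideal A) [p.IsPrime] :
    min (k : WithBot ℕ∞) (ringKrullDim (Localization.AtPrime p)) ≤
      ((LocCoh.depth (Localization.AtPrime p) (Localization.AtPrime p) : ℕ∞) : WithBot ℕ∞) := by
  have h := hA p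
  rw [InvFin.supportDim_self, ← InvFin.depth_self] at h
  rwa [IsLocalization.AtPrime.ringKrullDim_eq_height p (Localization.AtPrime p)]

theorem hasSk_of_isReflexive {k : ℕ} (hk : k ≤ 2) (hA : LocCoh.HasSk k A A) (G : Type u) [AddCommGroup G]
    [Module A G] [Module.Finite A G] [Module.IsReflexive A G] : LocCoh.HasSk k A G := by
  haveI : Module.Finite A (Module.Dual A (Module.Dual A G)) := Module.Finite.equiv (Module.evalEquiv A G)
  obtain ⟨m, n, i, u, hi, hu⟩ := exists_dual_presentation (A := A) G
  intro p hp
  refine min_le_of_forall hk fun j hj hj1 hjd => ?_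
  have hR := le_depth_of_le_min (min_le_depth_localization hA p) hj
    (hjd.trans (Module.supportDim_le_ringKrullDim _ _))
  have hpi : ∀ l : ℕ, ∀ c : ℕ, c ≤ j → (c : ℕ∞) ≤
      LocCoh.depth (Localization.AtPrime p) (LocalizedModule p.primeCompl (Fin l → A)) := by
    intro l c hc
    let e : LocalizedModule p.primeCompl (Fin l → A) ≃ₗ[Localization.AtPrime p] (Fin l → Localization.AtPrime p) :=
      (IsLocalizedModule.linearEquiv p.primeCompl (LocalizedModule.mkLinearMap p.primeCompl (Fin l → A))
        (LinearMap.pi fun i => (Algebra.linearMap A (Localization.AtPrime p)).comp (LinearMap.proj i))).extendScalarsOfIsLocalization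
          p.primeCompl (Localization.AtPrime p)
    rw [LocCoh.depth, LocH.idealDepth_congr e]
    exact le_idealDepth_pi l c (by omega) (le_trans (by exact_mod_cast hc) hR)
  have hinj := LocalizedModule.map_injective p.primeCompl (i ∘ₗ (Module.evalEquiv A G).toLinearMap)
    (hi.comp (Module.evalEquiv A G).injective)
  have hex : Function.Exact (LocalizedModule.map p.primeCompl (i ∘ₗ (Module.evalEquiv A G).toLinearMap))
      (LocalizedModule.map p.primeCompl u) := LocalizedModule.map_exact p.primeCompl (i ∘ₗ (Module.evalEquiv A G).toLinearMap) u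
    (fun x => (hu x).trans ⟨fun ⟨y, hy⟩ => ⟨(Module.evalEquiv A G).symm y, by
      rw [LinearMap.comp_apply, LinearEquiv.coe_coe, LinearEquiv.apply_symm_apply, hy]⟩,
      fun ⟨y, hy⟩ => ⟨_, hy⟩⟩)
  match j, hj1, (hj.trans hk) with
  | 1, _, _ => exact_mod_cast one_le_of_injective _ hinj (by exact_mod_cast hpi m 1 le_rfl)
  | 2, _, _ =>
    exact_mod_cast two_le_of_kernel _ hinj _ hex (by exact_mod_cast hpi m 2 le_rfl)
      (by exact_mod_cast hpi n 1 (by omega))

theorem exists_lift_dual (p : Ideal A) [p.IsPrime] (G : Type u) [AddCommGroup G] [Module A G] [Module.Finite A G]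
    (ψ : Module.Dual (Localization.AtPrime p) (LocalizedModule p.primeCompl G)) :
    ∃ (f : Module.Dual A G) (s : p.primeCompl), ∀ g, algebraMap A (Localization.AtPrime p) (f g) =
      algebraMap A (Localization.AtPrime p) (s : A) * ψ (LocalizedModule.mkLinearMap p.primeCompl G g) := by
  haveI : Module.FinitePresentation A G := Module.finitePresentation_of_finite A G
  obtain ⟨f, s, hfs⟩ := Module.FinitePresentation.exists_lift_of_isLocalizedModule p.primeCompl
    (Algebra.linearMap A (Localization.AtPrime p))
    ((ψ.restrictScalars A).comp (LocalizedModule.mkLinearMap p.primeCompl G))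
  refine ⟨f, s, fun g => ?_⟩
  have := LinearMap.congr_fun hfs g
  simp only [LinearMap.comp_apply, LinearMap.smul_apply, LinearMap.restrictScalars_apply,
    Submonoid.smul_def] at this
  rw [← Algebra.linearMap_apply A, this, Algebra.smul_def]

/-- Reflexive off `V(I)`: each element of the bidual is an evaluation up to a multiple off `p`. -/
theorem exists_smul_eq_eval (p : Ideal A) [p.IsPrime] (G : Type u) [AddCommGroup G] [Module A G]
    [Module.Finite A G]
    (hG : Module.IsReflexive (Localization.AtPrime p) (LocalizedModule p.primeCompl G)) :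
    (∀ φ : Module.Dual A (Module.Dual A G), ∃ s ∉ p, ∃ g, Module.Dual.eval A G g = s • φ) ∧
    ∀ g : G, Module.Dual.eval A G g = 0 → ∃ s ∉ p, s • g = 0 := by
  haveI : Module.Finite A (Module.Dual A G) := by
    obtain ⟨n, f, hf⟩ := Module.Finite.exists_fin' A G
    exact Module.Finite.of_injective f.dualMap (LinearMap.dualMap_injective_of_surjective hf)
  choose lf ls hl using exists_lift_dual p G
  have hunit : ∀ s : p.primeCompl, IsUnit (algebraMap A (Localization.AtPrime p) (s : A)) := IsLocalization.map_units _
  let mk := LocalizedModule.mkLinearMap p.primeCompl G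
  constructor
  · intro φ
    have huniq : ∀ (f : Module.Dual A G) (s : p.primeCompl) ψ,
        (∀ g, algebraMap A (Localization.AtPrime p) (f g) = algebraMap A (Localization.AtPrime p) (s : A) * ψ (mk g)) →
        algebraMap A (Localization.AtPrime p) ((ls ψ : A) * φ f) = algebraMap A (Localization.AtPrime p) ((s : A) * φ (lf ψ)) := by
      intro f s ψ hf
      have hd : ∀ g, algebraMap A (Localization.AtPrime p) (((ls ψ : A) • f - (s : A) • lf ψ) g) = 0 := fun g => by
        rw [LinearMap.sub_apply, LinearMap.smul_apply, LinearMap.smul_apply, smul_eq_mul, smul_eq_mul,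
          map_sub, map_mul, map_mul, hf, hl ψ g]
        ring
      obtain ⟨n, q, hq⟩ := Module.Finite.exists_fin' A G
      choose t ht using fun i => (IsLocalization.map_eq_zero_iff p.primeCompl (Localization.AtPrime p) _).mp (hd (q (Pi.single i 1)))
      have hzero : ((∏ i, t i : p.primeCompl) : A) • ((ls ψ : A) • f - (s : A) • lf ψ) = 0 := by
        refine LinearMap.ext fun g => ?_
        obtain ⟨v, rfl⟩ := hq g
        induction v using Pi.single_induction with
        | zero => simp
        | add a b ha hb => rw [map_add, map_add, ha, hb]; simp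
        | single i c =>
          rw [show (Pi.single i c : Fin n → A) = c • Pi.single i 1 by rw [← Pi.single_smul, smul_eq_mul, mul_one],
            map_smul, map_smul, LinearMap.smul_apply,
            ← Finset.mul_prod_erase _ _ (Finset.mem_univ i), Submonoid.coe_mul, smul_eq_mul (a := (t i : A) * _),
            mul_right_comm, ht i]
          simp
      have h1 := congrArg (fun z => algebraMap A (Localization.AtPrime p) (φ z)) hzero
      simp only [map_smul, map_sub, smul_eq_mul, map_mul, map_zero] at h1
      rw [(hunit _).mul_right_eq_zero, sub_eq_zero] at h1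
      rw [map_mul, map_mul]
      exact h1
    let Φ : Module.Dual (Localization.AtPrime p) (LocalizedModule p.primeCompl G) → (Localization.AtPrime p) :=
      fun ψ => algebraMap A (Localization.AtPrime p) (φ (lf ψ)) * ↑(hunit (ls ψ)).unit⁻¹
    have hΦ : ∀ f s ψ, (∀ g, algebraMap A (Localization.AtPrime p) (f g) = algebraMap A (Localization.AtPrime p) ((s : p.primeCompl) : A) * ψ (mk g)) →
        algebraMap A (Localization.AtPrime p) (φ f) = algebraMap A (Localization.AtPrime p) (s : A) * Φ ψ := by
      intro f s ψ hf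
      have h := huniq f s ψ hf
      rw [map_mul, map_mul] at h
      simp only [Φ]
      rw [← mul_assoc, ← h, mul_right_comm, IsUnit.mul_val_inv, one_mul]
    let Φl : Module.Dual (Localization.AtPrime p) (Module.Dual (Localization.AtPrime p) (LocalizedModule p.primeCompl G)) :=
      { toFun := Φ
        map_add' := fun a b => by
          have h := hΦ ((ls b : A) • lf a + (ls a : A) • lf b) (ls a * ls b) (a + b) fun g => by
            simp only [LinearMap.add_apply, LinearMap.smul_apply, smul_eq_mul, map_add, map_mul, hl,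
              Submonoid.coe_mul, mk]
            ring
          rw [map_add, map_smul, map_smul, smul_eq_mul, smul_eq_mul, map_add, map_mul, map_mul,
            hΦ _ _ a (hl a), hΦ _ _ b (hl b), Submonoid.coe_mul, map_mul] at h
          apply ((hunit (ls a)).mul (hunit (ls b))).mul_left_cancel
          linear_combination -h
        map_smul' := fun c a => by
          obtain ⟨⟨r, t⟩, hrt⟩ := IsLocalization.surj p.primeCompl c
          have h := hΦ (r • lf a) (ls a * t) (c • a) fun g => by
            simp only [LinearMap.smul_apply, smul_eq_mul, map_mul, hl, Submonoid.coe_mul, mk, ← hrt]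
            ring
          rw [map_smul, smul_eq_mul, map_mul, hΦ _ _ a (hl a), Submonoid.coe_mul, map_mul, ← hrt] at h
          rw [RingHom.id_apply, smul_eq_mul]
          apply ((hunit (ls a)).mul (hunit t)).mul_left_cancel
          linear_combination -h }
    obtain ⟨z, hz⟩ := hG.bijective_dual_eval'.2 Φl
    obtain ⟨⟨g, s⟩, rfl⟩ := IsLocalizedModule.mk'_surjective p.primeCompl mk z
    obtain ⟨n, q, hq⟩ := Module.Finite.exists_fin' A (Module.Dual A G)
    have hkey : ∀ f : Module.Dual A G, ∃ v : p.primeCompl, (v : A) * f g = (v : A) * ((s : A) * φ f) := by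
      intro f
      have hψ : ∃ ψ : Module.Dual (Localization.AtPrime p) (LocalizedModule p.primeCompl G),
          ∀ g, ψ (mk g) = algebraMap A (Localization.AtPrime p) (f g) :=
        ⟨(IsLocalizedModule.lift p.primeCompl mk ((Algebra.linearMap A (Localization.AtPrime p)).comp f)
          (IsLocalizedModule.map_units (Algebra.linearMap A (Localization.AtPrime p)))).extendScalarsOfIsLocalization p.primeCompl (Localization.AtPrime p),
          fun g => IsLocalizedModule.lift_apply p.primeCompl mk ((Algebra.linearMap A (Localization.AtPrime p)).comp f)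
            (IsLocalizedModule.map_units (Algebra.linearMap A (Localization.AtPrime p))) g⟩
      obtain ⟨ψ, hψ⟩ := hψ
      have h1 := hΦ f 1 ψ fun g => by rw [hψ, OneMemClass.coe_one, map_one, one_mul]
      rw [OneMemClass.coe_one, map_one, one_mul] at h1
      have h2 : (s : A) • ψ (IsLocalizedModule.mk' mk g s) = algebraMap A (Localization.AtPrime p) (f g) := by
        rw [← LinearMap.map_smul_of_tower, ← Submonoid.smul_def, IsLocalizedModule.mk'_cancel', hψ]
      have h3 : ψ (IsLocalizedModule.mk' mk g s) = Φ ψ := LinearMap.congr_fun hz ψ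
      rw [h3, Algebra.smul_def, ← h1, ← map_mul] at h2
      obtain ⟨v, hv⟩ := (IsLocalization.eq_iff_exists p.primeCompl (Localization.AtPrime p)).mp h2
      exact ⟨v, hv.symm⟩
    choose v hv using fun i => hkey (q (Pi.single i 1))
    let V : p.primeCompl := ∏ i, v i
    refine ⟨(V : A) * (s : A), (V * s).2, (V : A) • g, ?_⟩
    refine LinearMap.ext fun f => ?_
    rw [Module.Dual.eval_apply, LinearMap.smul_apply, map_smul, smul_eq_mul, smul_eq_mul]
    obtain ⟨w, rfl⟩ := hq f
    induction w using Pi.single_induction with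
    | zero => simp
    | add a b ha hb => rw [map_add, LinearMap.add_apply, map_add]; linear_combination ha + hb
    | single i c =>
      rw [show (Pi.single i c : Fin n → A) = c • Pi.single i 1 by rw [← Pi.single_smul, smul_eq_mul, mul_one],
        map_smul, LinearMap.smul_apply, map_smul,
        smul_eq_mul, smul_eq_mul]
      simp only [V, ← Finset.mul_prod_erase _ _ (Finset.mem_univ i), Submonoid.coe_mul]
      linear_combination c * ((Finset.univ.erase i).prod v : p.primeCompl) * hv i
  · intro g hg
    have h : Module.Dual.eval (Localization.AtPrime p) (LocalizedModule p.primeCompl G) (mk g) = 0 := by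
      refine LinearMap.ext fun ψ => ?_
      rw [Module.Dual.eval_apply, LinearMap.zero_apply, ← (hunit (ls ψ)).mul_right_eq_zero, ← hl,
        show lf ψ g = 0 from LinearMap.congr_fun hg (lf ψ), map_zero]
    have h0 := hG.bijective_dual_eval'.1 (h.trans (map_zero _).symm)
    rw [← map_zero mk] at h0
    obtain ⟨s, hs⟩ := IsLocalizedModule.exists_of_eq (S := p.primeCompl) h0
    exact ⟨s, s.2, by rw [← Submonoid.smul_def, hs, smul_zero]⟩

theorem exists_pow_smul_mem {I : Ideal A} {M : Type u} [AddCommGroup M] [Module A M] (N : Submodule A M) (m : M)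
    (h : ∀ p : PrimeSpectrum A, ¬ I ≤ p.asIdeal → ∃ s ∉ p.asIdeal, s • m ∈ N) :
    ∃ k : ℕ, ∀ a ∈ I ^ k, a • m ∈ N := by
  let J := N.colon {m}
  have hle : I ≤ J.radical := by
    intro a ha
    rw [Ideal.radical_eq_sInf, Ideal.mem_sInf]
    rintro q ⟨hJq, hq⟩
    by_contra haq
    obtain ⟨s, hs, hsm⟩ := h ⟨q, hq⟩ fun hI => haq (hI ha)
    exact hs (hJq (Submodule.mem_colon_singleton.mpr hsm))
  obtain ⟨k, hk⟩ := Ideal.exists_pow_le_of_le_radical_of_fg hle (IsNoetherian.noetherian I)
  exact ⟨k, fun a ha => Submodule.mem_colon_singleton.mp (hk ha)⟩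

theorem isReflexive_of_two_le {I : Ideal A} (hA : 1 ≤ LocCoh.idealDepth I A)
    (G : Type u) [AddCommGroup G] [Module A G] [Module.Finite A G]
    (hU : ∀ p : PrimeSpectrum A, ¬ I ≤ p.asIdeal →
      Module.IsReflexive (Localization.AtPrime p.asIdeal) (LocalizedModule p.asIdeal.primeCompl G))
    (hG : 2 ≤ LocCoh.idealDepth I G) : Module.IsReflexive A G := by
  obtain ⟨x, hxI, hxA, hxG⟩ := exists_regular_both I A G hA (le_trans (by norm_num) hG)
  obtain ⟨y, hyI, hy⟩ := exists_regMod_of_two_le hG hxI hxG
  have hxD : IsSMulRegular (Module.Dual A (Module.Dual A G)) x := fun a b h =>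
    LinearMap.ext fun f => hxA (LinearMap.congr_fun h f)
  refine ⟨fun a b h => ?_, fun φ => ?_⟩
  · rw [← sub_eq_zero, ← map_sub] at h
    rw [← sub_eq_zero]
    obtain ⟨k, hk⟩ := exists_pow_smul_mem (I := I) (⊥ : Submodule A G) (a - b) fun p hp => by
      obtain ⟨s, hs, h0⟩ := (exists_smul_eq_eval p.asIdeal G (hU p hp)).2 _ h
      exact ⟨s, hs, (Submodule.mem_bot A).mpr h0⟩
    exact (hxG.pow k) (((Submodule.mem_bot A).mp (hk _ (Ideal.pow_mem_pow hxI k))).trans (smul_zero _).symm)
  · let N := LinearMap.range (Module.Dual.eval A G)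
    obtain ⟨k, hk⟩ := exists_pow_smul_mem (I := I) N φ fun p hp => by
      obtain ⟨s, hs, g, hg⟩ := (exists_smul_eq_eval p.asIdeal G (hU p hp)).1 φ
      exact ⟨s, hs, g, hg⟩
    revert φ
    induction k with
    | zero =>
      intro φ hk
      simpa [N] using hk 1 (by simp)
    | succ k ih =>
      intro φ hk
      refine ih φ fun a ha => ?_
      obtain ⟨g, hg⟩ := hk (x * a) (by rw [pow_succ']; exact Ideal.mul_mem_mul hxI ha)
      obtain ⟨g', hg'⟩ := hk (y * a) (by rw [pow_succ']; exact Ideal.mul_mem_mul hyI ha)
      have hinj : Function.Injective (Module.Dual.eval A G) := fun a b h => by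
        rw [← sub_eq_zero, ← map_sub] at h
        rw [← sub_eq_zero]
        obtain ⟨k, hk⟩ := exists_pow_smul_mem (I := I) (⊥ : Submodule A G) (a - b) fun p hp => by
          obtain ⟨s, hs, h0⟩ := (exists_smul_eq_eval p.asIdeal G (hU p hp)).2 _ h
          exact ⟨s, hs, (Submodule.mem_bot A).mpr h0⟩
        exact (hxG.pow k) (((Submodule.mem_bot A).mp (hk _ (Ideal.pow_mem_pow hxI k))).trans (smul_zero _).symm)
      obtain ⟨g'', hg''⟩ := hy g g' (hinj (by
        rw [map_smul, map_smul, hg, hg', smul_smul, smul_smul]
        congr 1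
        ring))
      refine ⟨g'', hxD ?_⟩
      change x • Module.Dual.eval A G g'' = x • a • φ
      rw [← map_smul, ← hg'', hg, smul_smul]

end Groth.Agent.QGorD
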