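import Groth.Agent.QGorD.FibTensor
import Groth.Agent.InjFibre.Loc
import Mathlib.Algebra.Module.LocalizedModule.Exact
import Mathlib.RingTheory.Flat.Equalizer

/-!
Four term exact sequences `0 → F → E⁰ → E¹ → G → 0` with `G` flat off `V(J)`: the flatness of `G` is
the exactness in the middle of the closed fibre.
-/

universe u

open TensorProduct

namespace Groth.Agent.QGorD

variable {A B : Type u} [CommRing A] [CommRing B] [Algebra A B]

section SES

variable {N P Q : Type u} [AddCommGroup N] [Module B N] [Module A N] [IsScalarTower A B N]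
  [AddCommGroup P] [Module B P] [Module A P] [IsScalarTower A B P]
  [AddCommGroup Q] [Module B Q] [Module A Q] [IsScalarTower A B Q]
  {i : N →ₗ[B] P} {π : P →ₗ[B] Q}

theorem rTensor_injective_of_flat_coker (hi : Function.Injective i) (hπ : Function.Surjective π)
    (hex : Function.Exact i π) [Module.Flat A Q] (V : Type u) [AddCommGroup V] [Module A V] :
    Function.Injective (AlgebraTensorModule.rTensor A V i) := by
  have h := LinearMap.lTensor_injective_of_exact_of_flat (π.restrictScalars A) hπ (i.restrictScalars A) hi hex V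
  have hc : ∀ w, AlgebraTensorModule.rTensor A V i w =
      TensorProduct.comm A V P ((i.restrictScalars A).lTensor V ((TensorProduct.comm A V N).symm w)) := fun w => by
    induction w using TensorProduct.induction_on with
    | zero => simp
    | tmul p q => simp
    | add p q hp hq => simp only [map_add, hp, hq]
  intro a b hab
  rw [hc, hc] at hab
  exact (TensorProduct.comm A V N).symm.injective (h ((TensorProduct.comm A V P).injective hab))

theorem flat_of_flat_coker (hi : Function.Injective i) (hπ : Function.Surjective π)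
    (hex : Function.Exact i π) [Module.Flat A P] [Module.Flat A Q] : Module.Flat A N := by
  rw [Module.Flat.iff_lTensor_injective]
  intro I hI
  have h : Function.Injective ((I.subtype).lTensor P ∘ AlgebraTensorModule.rTensor A I i) :=
    (Module.Flat.lTensor_preserves_injective_linearMap I.subtype I.injective_subtype).comp
      (rTensor_injective_of_flat_coker hi hπ hex I)
  intro a b hab
  apply h
  have hc : ∀ w, I.subtype.lTensor P (AlgebraTensorModule.rTensor A I i w) =
      AlgebraTensorModule.rTensor A A i (I.subtype.lTensor N w) := fun w => by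
    induction w using TensorProduct.induction_on with
    | zero => simp
    | tmul p q => simp
    | add p q hp hq => simp only [map_add, hp, hq]
  simp only [Function.comp_apply, hc, hab]

theorem flatAt_of_flat_coker (hi : Function.Injective i) (hπ : Function.Surjective π) (hex : Function.Exact i π)
    (q : Ideal B) [q.IsPrime] (hP : FlatCA.FlatAt A q P) (hQ : FlatCA.FlatAt A q Q) : FlatCA.FlatAt A q N := by
  haveI : Module.Flat A (LocalizedModule q.primeCompl P) := hP
  haveI : Module.Flat A (LocalizedModule q.primeCompl Q) := hQ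
  exact flat_of_flat_coker
    (i := IsLocalizedModule.map q.primeCompl (LocalizedModule.mkLinearMap q.primeCompl N) (LocalizedModule.mkLinearMap q.primeCompl P) i)
    (π := IsLocalizedModule.map q.primeCompl (LocalizedModule.mkLinearMap q.primeCompl P) (LocalizedModule.mkLinearMap q.primeCompl Q) π)
    (IsLocalizedModule.map_injective _ _ _ i hi) (IsLocalizedModule.map_surjective _ _ _ π hπ)
    (IsLocalizedModule.map_exact _ _ _ _ i π hex)

theorem flatAt_of_flat (q : Ideal B) [q.IsPrime] [Module.Flat A P] : FlatCA.FlatAt A q P :=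
  InjFibre.flat_localized q.primeCompl (LocalizedModule.mkLinearMap q.primeCompl P)

/-- A base change of an injection with cokernel flat at `q` has kernel vanishing at `q`. -/
theorem exists_smul_eq_zero_of_rTensor (hi : Function.Injective i) (hπ : Function.Surjective π)
    (hex : Function.Exact i π) (q : Ideal B) [q.IsPrime] (hQ : FlatCA.FlatAt A q Q)
    {V : Type u} [AddCommGroup V] [Module A V] {z : N ⊗[A] V}
    (hz : AlgebraTensorModule.rTensor A V i z = 0) : ∃ s ∉ q, s • z = 0 := by
  haveI : Module.Flat A (LocalizedModule q.primeCompl Q) := hQ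
  let gN := LocalizedModule.mkLinearMap q.primeCompl N
  let gP := LocalizedModule.mkLinearMap q.primeCompl P
  let iq := IsLocalizedModule.map q.primeCompl gN gP i
  have hinj : Function.Injective (AlgebraTensorModule.rTensor A V iq) :=
    rTensor_injective_of_flat_coker
      (π := IsLocalizedModule.map q.primeCompl gP (LocalizedModule.mkLinearMap q.primeCompl Q) π)
      (IsLocalizedModule.map_injective _ _ _ i hi) (IsLocalizedModule.map_surjective _ _ _ π hπ)
      (IsLocalizedModule.map_exact _ _ _ _ i π hex) V
  have hc : ∀ w, AlgebraTensorModule.rTensor A V iq (AlgebraTensorModule.rTensor A V gN w) =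
      AlgebraTensorModule.rTensor A V gP (AlgebraTensorModule.rTensor A V i w) := fun w => by
    induction w using TensorProduct.induction_on with
    | zero => simp
    | tmul p r =>
      simp only [AlgebraTensorModule.rTensor_tmul]
      rw [IsLocalizedModule.map_apply]
    | add p r hp hr => simp only [map_add, hp, hr]
  have h0 : AlgebraTensorModule.rTensor A V gN z = 0 := hinj (by rw [hc, hz, map_zero, map_zero])
  obtain ⟨s, hs⟩ := IsLocalizedModule.exists_of_eq (S := q.primeCompl) (h0.trans (map_zero _).symm)
  exact ⟨s, s.2, by rw [← Submonoid.smul_def, hs, smul_zero]⟩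

theorem tmul_one_eq_zero_iff (I : Ideal A) (x : N) :
    x ⊗ₜ[A] (1 : A ⧸ I) = 0 ↔ x ∈ I.map (algebraMap A B) • (⊤ : Submodule B N) := by
  rw [InjFibre.mem_smul_top_iff, ← LocalCrit.one_tmul_eq_zero_iff,
    ← (TensorProduct.comm A (A ⧸ I) N).map_eq_zero_iff, TensorProduct.comm_tmul]

theorem mem_of_map_mem_of_flat_coker (hi : Function.Injective i) (hπ : Function.Surjective π)
    (hex : Function.Exact i π) [Module.Flat A Q] (I : Ideal A) {x : N}
    (hx : i x ∈ I.map (algebraMap A B) • (⊤ : Submodule B P)) :
    x ∈ I.map (algebraMap A B) • (⊤ : Submodule B N) := by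
  rw [← tmul_one_eq_zero_iff] at hx ⊢
  exact rTensor_injective_of_flat_coker hi hπ hex (A ⧸ I) (by rw [AlgebraTensorModule.rTensor_tmul, hx, map_zero])

theorem exists_smul_mem_of_map_mem (hi : Function.Injective i) (hπ : Function.Surjective π)
    (hex : Function.Exact i π) (q : Ideal B) [q.IsPrime] (hQ : FlatCA.FlatAt A q Q) (I : Ideal A) {x : N}
    (hx : i x ∈ I.map (algebraMap A B) • (⊤ : Submodule B P)) :
    ∃ s ∉ q, s • x ∈ I.map (algebraMap A B) • (⊤ : Submodule B N) := by
  rw [← tmul_one_eq_zero_iff] at hx
  obtain ⟨s, hs, h⟩ := exists_smul_eq_zero_of_rTensor hi hπ hex q hQ (V := A ⧸ I) (z := x ⊗ₜ 1)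
    (by rw [AlgebraTensorModule.rTensor_tmul, hx])
  exact ⟨s, hs, (tmul_one_eq_zero_iff I _).1 (by rwa [TensorProduct.smul_tmul'] at h)⟩

end SES

section Four

variable {F E0 E1 G : Type u} [AddCommGroup F] [Module B F] [Module A F] [IsScalarTower A B F]
  [AddCommGroup E0] [Module B E0] [Module A E0] [IsScalarTower A B E0]
  [AddCommGroup E1] [Module B E1] [Module A E1] [IsScalarTower A B E1]
  [AddCommGroup G] [Module B G] [Module A G] [IsScalarTower A B G]
  {f : F →ₗ[B] E0} {u : E0 →ₗ[B] E1} {v : E1 →ₗ[B] G}

theorem exact_subtype_range (huv : Function.Exact u v) : Function.Exact (LinearMap.range u).subtype v := by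
  rw [LinearMap.exact_iff, Submodule.range_subtype]
  exact LinearMap.exact_iff.1 huv

theorem exact_rangeRestrict (hfu : Function.Exact f u) : Function.Exact f u.rangeRestrict := fun e => by
  rw [← hfu e]
  exact ⟨fun h => congrArg Subtype.val h, fun h => Subtype.ext h⟩

/-- Off `V(J)` the sequence stays exact in the middle after tensoring. -/
theorem exists_smul_mem_range (hfu : Function.Exact f u) (huv : Function.Exact u v) (hv : Function.Surjective v)
    (q : Ideal B) [q.IsPrime] (hG : FlatCA.FlatAt A q G) {V : Type u} [AddCommGroup V] [Module A V]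
    {z : E0 ⊗[A] V} (hz : AlgebraTensorModule.rTensor A V u z = 0) :
    ∃ s ∉ q, s • z ∈ LinearMap.range (AlgebraTensorModule.rTensor A V f) := by
  have hc : ∀ w, AlgebraTensorModule.rTensor A V (LinearMap.range u).subtype
      (AlgebraTensorModule.rTensor A V u.rangeRestrict w) = AlgebraTensorModule.rTensor A V u w := fun w => by
    induction w using TensorProduct.induction_on with
    | zero => simp
    | tmul p r => simp
    | add p r hp hr => simp only [map_add, hp, hr]
  obtain ⟨s, hs, h⟩ := exists_smul_eq_zero_of_rTensor (i := (LinearMap.range u).subtype) (π := v)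
    (Submodule.injective_subtype _) hv (exact_subtype_range huv) q hG (z := AlgebraTensorModule.rTensor A V u.rangeRestrict z)
    (by rw [hc, hz])
  refine ⟨s, hs, ?_⟩
  have hex : Function.Exact ((f.restrictScalars A).rTensor V) ((u.rangeRestrict.restrictScalars A).rTensor V) :=
    rTensor_exact (f := f.restrictScalars A) (g := u.rangeRestrict.restrictScalars A) V (exact_rangeRestrict hfu)
      u.surjective_rangeRestrict
  exact (hex (s • z)).1 ((map_smul (AlgebraTensorModule.rTensor A V u.rangeRestrict) s z).trans h)

variable [IsLocalRing A]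

theorem middle_exact_of_flat (hfu : Function.Exact f u) (huv : Function.Exact u v) (hv : Function.Surjective v)
    [Module.Flat A G] {e : E0} (he : u e ∈ EGA4.mB A B • (⊤ : Submodule B E1)) :
    ∃ x : F, e - f x ∈ EGA4.mB A B • (⊤ : Submodule B E0) := by
  have h := mem_of_map_mem_of_flat_coker (i := (LinearMap.range u).subtype) (π := v) (x := u.rangeRestrict e)
    (Submodule.injective_subtype _) hv (exact_subtype_range huv) (IsLocalRing.maximalIdeal A) he
  rw [← Submodule.map_top (f := u.rangeRestrict) |>.trans u.range_rangeRestrict, ← Submodule.map_smul''] at h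
  obtain ⟨e', he', heq⟩ := h
  obtain ⟨x, hx⟩ := (exact_rangeRestrict hfu (e - e')).1 (by rw [map_sub, heq, sub_self])
  exact ⟨x, by rwa [hx, sub_sub_cancel]⟩

variable [IsNoetherianRing A] [IsNoetherianRing B] [IsLocalRing B] [IsLocalHom (algebraMap A B)]

/-- Exactness in the middle of the closed fibre forces flatness of `G`. -/
theorem flat_of_middle_exact [Module.Finite B E0] [Module.Flat A E1]
    (hfu : Function.Exact f u) (huv : Function.Exact u v) (hv : Function.Surjective v)
    (h : ∀ e : E0, u e ∈ EGA4.mB A B • (⊤ : Submodule B E1) →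
      ∃ x : F, e - f x ∈ EGA4.mB A B • (⊤ : Submodule B E0)) : Module.Flat A G := by
  haveI : Module.Finite B (LinearMap.range u) := Module.Finite.range u
  let i : LinearMap.range u →ₗ[A] E1 := (LinearMap.range u).subtype.restrictScalars A
  have hres : Function.Injective (i.lTensor (IsLocalRing.ResidueField A)) :=
    (LocalCrit.quot_lTensor_injective_iff _ i).2 fun k hk => by
      obtain ⟨_, e, rfl⟩ := k
      obtain ⟨x, hx⟩ := h e ((InjFibre.mem_smul_top_iff _ _).2 hk)
      have h1 := Submodule.mem_map_of_mem (f := u.rangeRestrict) hx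
      rw [Submodule.map_smul'', map_sub, ((exact_rangeRestrict hfu) (f x)).2 ⟨x, rfl⟩, sub_zero] at h1
      exact (InjFibre.mem_smul_top_iff _ _).1 (Submodule.smul_mono le_rfl le_top h1)
  obtain ⟨-, hflat⟩ := LocalCrit.injective_and_flat_of_residue_injective (S := B) i hres
  haveI := hflat
  have heq : LinearMap.range i = LinearMap.ker (v.restrictScalars A) := by
    ext e
    change e ∈ LinearMap.range i ↔ v e = 0
    rw [huv e]
    exact ⟨fun ⟨k, hk⟩ => hk ▸ k.2, fun he => ⟨⟨e, he⟩, rfl⟩⟩
  exact Module.Flat.of_linearEquiv
    ((Submodule.quotEquivOfEq _ _ heq).trans ((v.restrictScalars A).quotKerEquivOfSurjective hv)).symm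

omit [IsNoetherianRing A] [IsLocalRing B] [IsLocalHom (algebraMap A B)] in
theorem two_le_fibMod_of_flat [Module.Finite B F] [Module.Finite B E0] [Module.Finite B E1] [Module.Flat A E1] [Module.Flat A G]
    (hf : Function.Injective f) (hfu : Function.Exact f u) (huv : Function.Exact u v) (hv : Function.Surjective v)
    {J : Ideal B} (h0 : 2 ≤ LocCoh.idealDepth J (EGA4.FibMod A B E0))
    (h1 : 1 ≤ LocCoh.idealDepth J (EGA4.FibMod A B E1)) : 2 ≤ LocCoh.idealDepth J (EGA4.FibMod A B F) := by
  haveI : Module.Flat A (LinearMap.range u) :=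
    flat_of_flat_coker (Submodule.injective_subtype _) hv (exact_subtype_range huv)
  have hle : ∀ {X Y : Type u} [AddCommGroup X] [Module B X] [AddCommGroup Y] [Module B Y] (g : X →ₗ[B] Y),
      EGA4.mB A B • (⊤ : Submodule B X) ≤ (EGA4.mB A B • (⊤ : Submodule B Y)).comap g := fun g => by
    rw [← Submodule.map_le_iff_le_comap, Submodule.map_smul'']
    exact Submodule.smul_mono le_rfl le_top
  refine two_le_of_kernel (Submodule.mapQ _ _ f (hle f)) ?_ (Submodule.mapQ _ _ u (hle u)) ?_ h0 h1
  · rw [injective_iff_map_eq_zero]
    intro x hx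
    obtain ⟨x, rfl⟩ := Submodule.Quotient.mk_surjective _ x
    rw [Submodule.mapQ_apply, Submodule.Quotient.mk_eq_zero] at hx
    exact (Submodule.Quotient.mk_eq_zero _).2 (mem_of_map_mem_of_flat_coker (π := u.rangeRestrict) hf
      u.surjective_rangeRestrict (exact_rangeRestrict hfu) _ hx)
  · intro e
    obtain ⟨e, rfl⟩ := Submodule.Quotient.mk_surjective _ e
    rw [Submodule.mapQ_apply, Submodule.Quotient.mk_eq_zero]
    constructor
    · intro he
      obtain ⟨x, hx⟩ := middle_exact_of_flat hfu huv hv he
      exact ⟨Submodule.Quotient.mk x, ((Submodule.Quotient.eq _).2 hx).symm⟩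
    · rintro ⟨x, hx⟩
      obtain ⟨x, rfl⟩ := Submodule.Quotient.mk_surjective _ x
      rw [Submodule.mapQ_apply, Submodule.Quotient.eq] at hx
      have := hle u hx
      rwa [Submodule.mem_comap, map_sub, hfu.apply_apply_eq_zero, zero_sub, neg_mem_iff] at this

omit [IsLocalRing A] [IsNoetherianRing A] [IsLocalRing B] [IsLocalHom (algebraMap A B)] [IsNoetherianRing B] in
theorem flatAt_left [Module.Flat A E0] [Module.Flat A E1] (hf : Function.Injective f) (hfu : Function.Exact f u)
    (huv : Function.Exact u v) (hv : Function.Surjective v) (q : Ideal B) [q.IsPrime]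
    (hG : FlatCA.FlatAt A q G) : FlatCA.FlatAt A q F :=
  flatAt_of_flat_coker hf u.surjective_rangeRestrict (exact_rangeRestrict hfu) q (flatAt_of_flat q)
    (flatAt_of_flat_coker (Submodule.injective_subtype _) hv (exact_subtype_range huv) q (flatAt_of_flat q) hG)

end Four

end Groth.Agent.QGorD
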