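import Groth.Agent.LocH.Depth
import Groth.Agent.InvFin.Depth
import Mathlib.LinearAlgebra.Dual.Defs
import Mathlib.LinearAlgebra.Dual.Lemmas
import Mathlib.RingTheory.Ideal.AssociatedPrime.Finiteness
import Mathlib.Algebra.Module.FinitePresentation

/-!
Element-wise criteria for depth at least one and two, kernels, and reflexive modules.
-/

universe u

open RingTheory.Sequence Pointwise

namespace Groth.Agent.QGorD

variable {A : Type u} [CommRing A] [IsNoetherianRing A]

theorem exists_regular_of_one_le (I : Ideal A) (M : Type u) [AddCommGroup M] [Module A M] [Module.Finite A M]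
    (h : 1 ≤ LocCoh.idealDepth I M) : ∃ x ∈ I, IsSMulRegular M x := by
  obtain ⟨rs, hlen, hrs, hmem⟩ := LocH.exists_isWeaklyRegular I 1 M
    ((LocH.le_idealDepth_iff I M 1).1 (by exact_mod_cast h))
  obtain ⟨x, rfl⟩ := List.length_eq_one_iff.mp hlen
  rw [isWeaklyRegular_cons_iff] at hrs
  exact ⟨x, hmem x (by simp), hrs.1⟩

theorem one_le_of_regular {I : Ideal A} {M : Type u} [AddCommGroup M] [Module A M] [Module.Finite A M]
    {x : A} (hx : x ∈ I) (hr : IsSMulRegular M x) : 1 ≤ LocCoh.idealDepth I M := by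
  have := (LocH.le_idealDepth_iff I M 1).2 fun i hi =>
    LocH.subsingleton_of_isWeaklyRegular I [x] M
      ((isWeaklyRegular_cons_iff M x []).2 ⟨hr, IsWeaklyRegular.nil _ _⟩) (by simpa) i (by simpa using hi)
  exact_mod_cast this

/-- `y` is regular on `M / x M`. -/
def RegMod (M : Type u) [AddCommGroup M] [Module A M] (x y : A) : Prop :=
  ∀ m n : M, y • m = x • n → ∃ n', m = x • n'

theorem regMod_iff (M : Type u) [AddCommGroup M] [Module A M] (x y : A) :
    RegMod M x y ↔ IsSMulRegular (QuotSMulTop x M) y := by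
  constructor
  · intro h a b hab
    obtain ⟨m, rfl⟩ := Submodule.Quotient.mk_surjective _ a
    obtain ⟨n, rfl⟩ := Submodule.Quotient.mk_surjective _ b
    have h1 : (Submodule.Quotient.mk (y • m) : QuotSMulTop x M) = Submodule.Quotient.mk (y • n) := by
      simpa using hab
    rw [Submodule.Quotient.eq, ← smul_sub] at h1
    obtain ⟨c, -, hc⟩ := (Submodule.mem_smul_pointwise_iff_exists _ _ _).mp h1
    obtain ⟨n', hn'⟩ := h _ c hc.symm
    rw [Submodule.Quotient.eq, hn']
    exact (Submodule.mem_smul_pointwise_iff_exists _ _ _).mpr ⟨n', trivial, rfl⟩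
  · intro h m n hmn
    have h1 : (Submodule.Quotient.mk m : QuotSMulTop x M) = 0 := by
      refine h ?_
      change y • (Submodule.Quotient.mk m : QuotSMulTop x M) = y • 0
      rw [smul_zero, ← Submodule.Quotient.mk_smul, Submodule.Quotient.mk_eq_zero, hmn]
      exact (Submodule.mem_smul_pointwise_iff_exists _ _ _).mpr ⟨n, trivial, rfl⟩
    rw [Submodule.Quotient.mk_eq_zero] at h1
    obtain ⟨c, -, hc⟩ := (Submodule.mem_smul_pointwise_iff_exists _ _ _).mp h1
    exact ⟨c, hc.symm⟩

theorem two_le_of_regular {I : Ideal A} {M : Type u} [AddCommGroup M] [Module A M] [Module.Finite A M]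
    {x y : A} (hx : x ∈ I) (hy : y ∈ I) (hr : IsSMulRegular M x) (hm : RegMod M x y) :
    2 ≤ LocCoh.idealDepth I M := by
  have := (LocH.le_idealDepth_iff I M 2).2 fun i hi =>
    LocH.subsingleton_of_isWeaklyRegular I [x, y] M
      ((isWeaklyRegular_cons_iff M x [y]).2 ⟨hr, (isWeaklyRegular_cons_iff _ y []).2
        ⟨(regMod_iff M x y).1 hm, IsWeaklyRegular.nil _ _⟩⟩) (by simp [hx, hy]) i (by simpa using hi)
  exact_mod_cast this

theorem exists_regMod_of_two_le {I : Ideal A} {M : Type u} [AddCommGroup M] [Module A M] [Module.Finite A M]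
    (h : 2 ≤ LocCoh.idealDepth I M) {x : A} (hx : x ∈ I) (hr : IsSMulRegular M x) :
    ∃ y ∈ I, RegMod M x y := by
  have hH := (LocH.le_idealDepth_iff I M 2).1 (by exact_mod_cast h)
  obtain ⟨rs, hlen, hrs, hmem⟩ := LocH.exists_isWeaklyRegular I 1 (QuotSMulTop x M) fun i hi =>
    LocH.subsingleton_X₃ (LocH.smulSES_shortExact hr) i (hH i (by omega)) (hH (i + 1) (by omega))
  obtain ⟨y, rfl⟩ := List.length_eq_one_iff.mp hlen
  rw [isWeaklyRegular_cons_iff] at hrs
  exact ⟨y, hmem y (by simp), (regMod_iff M x y).2 hrs.1⟩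

theorem isSMulRegular_iff_not_mem {L : Type u} [AddCommGroup L] [Module A L] (c : A) :
    IsSMulRegular L c ↔ c ∉ ⋃ p ∈ associatedPrimes A L, (p : Set A) := by
  rw [biUnion_associatedPrimes_eq_zero_divisors A L]
  constructor
  · rintro h ⟨x, hx0, hx⟩
    exact hx0 (h (hx.trans (smul_zero c).symm))
  · intro h a b hab
    by_contra hne
    exact h ⟨a - b, sub_ne_zero.mpr hne, by rw [smul_sub]; exact sub_eq_zero.mpr hab⟩

theorem exists_regular_both (I : Ideal A) (M N : Type u) [AddCommGroup M] [Module A M] [Module.Finite A M]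
    [AddCommGroup N] [Module A N] [Module.Finite A N]
    (hM : 1 ≤ LocCoh.idealDepth I M) (hN : 1 ≤ LocCoh.idealDepth I N) :
    ∃ x ∈ I, IsSMulRegular M x ∧ IsSMulRegular N x := by
  classical
  obtain ⟨a, ha, hra⟩ := exists_regular_of_one_le I M hM
  obtain ⟨b, hb, hrb⟩ := exists_regular_of_one_le I N hN
  let S := (associatedPrimes.finite A M).toFinset ∪ (associatedPrimes.finite A N).toFinset
  have key : ∀ {L : Type u} [AddCommGroup L] [Module A L] {c : A}, IsSMulRegular L c →
      ∀ p ∈ associatedPrimes A L, c ∉ p := by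
    intro L _ _ c hc p hp hcp
    exact (isSMulRegular_iff_not_mem c).mp hc (Set.mem_iUnion₂.mpr ⟨p, hp, hcp⟩)
  by_contra hno
  push_neg at hno
  have hsub : (I : Set A) ⊆ ⋃ p ∈ (S : Set (Ideal A)), (p : Set A) := fun c hc => by
    simp only [S, Finset.coe_union, Set.Finite.coe_toFinset, Set.biUnion_union]
    by_contra hcu
    rw [Set.mem_union, not_or] at hcu
    refine hno c hc ?_ ?_
    · exact (isSMulRegular_iff_not_mem c).mpr hcu.1
    · exact (isSMulRegular_iff_not_mem c).mpr hcu.2
  obtain ⟨p, hpS, hIp⟩ := (Ideal.subset_union_prime (f := fun p : Ideal A => p) ⊥ ⊥ fun p hp _ _ => by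
    rcases Finset.mem_union.mp hp with h | h <;>
      exact ((Set.Finite.mem_toFinset _).mp h).1).mp hsub
  rcases Finset.mem_union.mp hpS with h | h
  · exact key hra p ((Set.Finite.mem_toFinset _).mp h) (hIp ha)
  · exact key hrb p ((Set.Finite.mem_toFinset _).mp h) (hIp hb)

section Kernel

variable {G E0 E1 : Type u} [AddCommGroup G] [Module A G] [Module.Finite A G]
  [AddCommGroup E0] [Module A E0] [Module.Finite A E0] [AddCommGroup E1] [Module A E1] [Module.Finite A E1]
  (i : G →ₗ[A] E0) (hi : Function.Injective i) (u : E0 →ₗ[A] E1) (hu : Function.Exact i u)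

include hi in
theorem one_le_of_injective {I : Ideal A} (h : 1 ≤ LocCoh.idealDepth I E0) : 1 ≤ LocCoh.idealDepth I G := by
  obtain ⟨x, hx, hr⟩ := exists_regular_of_one_le I E0 h
  exact one_le_of_regular hx (hr.of_injective i hi)

include hi hu in
theorem two_le_of_kernel {I : Ideal A} (h0 : 2 ≤ LocCoh.idealDepth I E0) (h1 : 1 ≤ LocCoh.idealDepth I E1) :
    2 ≤ LocCoh.idealDepth I G := by
  obtain ⟨x, hx, hr0, hr1⟩ := exists_regular_both I E0 E1 (le_trans (by norm_num) h0) h1
  obtain ⟨y, hy, hm⟩ := exists_regMod_of_two_le h0 hx hr0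
  refine two_le_of_regular hx hy (hr0.of_injective i hi) fun m n hmn => ?_
  obtain ⟨e, he⟩ := hm (i m) (i n) (by rw [← map_smul, hmn, map_smul])
  have : u e = 0 := by
    apply hr1
    change x • u e = x • 0
    rw [smul_zero, ← map_smul, ← he, hu.apply_apply_eq_zero]
  obtain ⟨g, rfl⟩ := (hu e).mp this
  exact ⟨g, hi (by rw [he, map_smul])⟩

end Kernel

theorem le_idealDepth_pi {I : Ideal A} (m k : ℕ) (hk : k ≤ 2) (h : (k : ℕ∞) ≤ LocCoh.idealDepth I A) :
    (k : ℕ∞) ≤ LocCoh.idealDepth I (Fin m → A) := by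
  match k, hk with
  | 0, _ => simp
  | 1, _ =>
    obtain ⟨x, hx, hr⟩ := exists_regular_of_one_le I A (by exact_mod_cast h)
    exact_mod_cast one_le_of_regular hx (fun a b hab => funext fun i => hr (congrFun hab i) : IsSMulRegular (Fin m → A) x)
  | 2, _ =>
    obtain ⟨x, hx, hr⟩ := exists_regular_of_one_le I A (le_trans (by norm_num) h)
    obtain ⟨y, hy, hm⟩ := exists_regMod_of_two_le (by exact_mod_cast h) hx hr
    exact_mod_cast two_le_of_regular (M := Fin m → A) hx hy (fun a b hab => funext fun i => hr (congrFun hab i))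
      fun a b hab => by
        choose c hc using fun i => hm (a i) (b i) (congrFun hab i)
        exact ⟨c, funext hc⟩

theorem exists_dual_presentation (G : Type u) [AddCommGroup G] [Module A G] [Module.Finite A G] :
    ∃ (m n : ℕ) (i : Module.Dual A (Module.Dual A G) →ₗ[A] (Fin m → A)) (u : (Fin m → A) →ₗ[A] (Fin n → A)),
      Function.Injective i ∧ Function.Exact i u := by
  haveI : Module.Finite A (Module.Dual A G) := by
    obtain ⟨n, f, hf⟩ := Module.Finite.exists_fin' A G
    exact Module.Finite.of_injective f.dualMap (LinearMap.dualMap_injective_of_surjective hf)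
  haveI : Module.FinitePresentation A (Module.Dual A G) := Module.finitePresentation_of_finite A _
  obtain ⟨m, f, hf⟩ := Module.Finite.exists_fin' A (Module.Dual A G)
  haveI : Module.Finite A (LinearMap.ker f) := Module.IsNoetherian.finite A _
  obtain ⟨n, g, hg⟩ := Module.Finite.exists_fin' A (LinearMap.ker f)
  let em : Module.Dual A (Fin m → A) ≃ₗ[A] (Fin m → A) := (Pi.basisFun A (Fin m)).toDualEquiv.symm
  let en : Module.Dual A (Fin n → A) ≃ₗ[A] (Fin n → A) := (Pi.basisFun A (Fin n)).toDualEquiv.symm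
  refine ⟨m, n, em.toLinearMap ∘ₗ f.dualMap,
    en.toLinearMap ∘ₗ ((LinearMap.ker f).subtype ∘ₗ g).dualMap ∘ₗ em.symm.toLinearMap,
    em.injective.comp (LinearMap.dualMap_injective_of_surjective hf), fun x => ⟨fun hx => ?_, ?_⟩⟩
  · simp only [LinearMap.comp_apply, LinearEquiv.coe_coe, LinearEquiv.map_eq_zero_iff] at hx
    have hk : LinearMap.ker f ≤ LinearMap.ker (em.symm x) := fun v hv => by
      obtain ⟨w, hw⟩ := hg ⟨v, hv⟩
      have := LinearMap.congr_fun hx w
      simpa [hw] using this
    refine ⟨(Submodule.liftQ _ (em.symm x) hk) ∘ₗ (f.quotKerEquivOfSurjective hf).symm.toLinearMap, ?_⟩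
    simp only [LinearMap.comp_apply, LinearEquiv.coe_coe]
    rw [← em.symm.injective.eq_iff, em.symm_apply_apply]
    refine LinearMap.ext fun v => ?_
    simp only [LinearMap.dualMap_apply, LinearMap.comp_apply, LinearEquiv.coe_coe]
    rw [show ((LinearMap.ker f).liftQ (em.symm x) hk) ((f.quotKerEquivOfSurjective hf).symm (f v)) =
      em.symm x v from ?_]
    rw [show (f.quotKerEquivOfSurjective hf).symm (f v) = Submodule.Quotient.mk v from
      (f.quotKerEquivOfSurjective hf).injective (by simp [LinearEquiv.apply_symm_apply])]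
    rfl
  · rintro ⟨y, rfl⟩
    simp only [LinearMap.comp_apply, LinearEquiv.coe_coe, LinearEquiv.symm_apply_apply,
      LinearEquiv.map_eq_zero_iff]
    refine LinearMap.ext fun w => ?_
    simp [LinearMap.dualMap_apply]

theorem le_idealDepth_bidual {I : Ideal A} (G : Type u) [AddCommGroup G] [Module A G] [Module.Finite A G]
    [Module.Finite A (Module.Dual A (Module.Dual A G))]
    (k : ℕ) (hk : k ≤ 2) (h : (k : ℕ∞) ≤ LocCoh.idealDepth I A) :
    (k : ℕ∞) ≤ LocCoh.idealDepth I (Module.Dual A (Module.Dual A G)) := by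
  obtain ⟨m, n, i, u, hi, hu⟩ := exists_dual_presentation (A := A) G
  match k, hk with
  | 0, _ => simp
  | 1, _ => exact_mod_cast one_le_of_injective i hi (by exact_mod_cast le_idealDepth_pi m 1 (by omega) h)
  | 2, _ =>
    exact_mod_cast two_le_of_kernel i hi u hu (by exact_mod_cast le_idealDepth_pi m 2 le_rfl h)
      (by exact_mod_cast le_idealDepth_pi n 1 (by omega) (le_trans (by norm_num) h))

theorem le_idealDepth_of_isReflexive {I : Ideal A} (G : Type u) [AddCommGroup G] [Module A G] [Module.Finite A G]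
    [Module.IsReflexive A G] (k : ℕ) (hk : k ≤ 2) (h : (k : ℕ∞) ≤ LocCoh.idealDepth I A) :
    (k : ℕ∞) ≤ LocCoh.idealDepth I G := by
  haveI : Module.Finite A (Module.Dual A (Module.Dual A G)) := Module.Finite.equiv (Module.evalEquiv A G)
  rw [LocH.idealDepth_congr (Module.evalEquiv A G) I]
  exact le_idealDepth_bidual G k hk h

theorem depth_eq_top_of_not_mem_support {M : Type u} [AddCommGroup M] [Module A M] (p : PrimeSpectrum A)
    (hp : p ∉ Module.support A M) :
    LocCoh.depth (Localization.AtPrime p.asIdeal) (LocalizedModule p.asIdeal.primeCompl M) = ⊤ := by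
  haveI : Subsingleton (LocalizedModule p.asIdeal.primeCompl M) :=
    not_nontrivial_iff_subsingleton.mp fun h => hp (Module.mem_support_iff.mpr h)
  rw [LocCoh.depth, LocCoh.idealDepth, if_pos (Subsingleton.elim _ _)]

theorem exists_nat_supportDim {R : Type u} [CommRing R] [IsNoetherianRing R] [IsLocalRing R]
    (M : Type u) [AddCommGroup M] [Module R M] [Nontrivial M] : ∃ n : ℕ, Module.supportDim R M = n := by
  have h1 : Module.supportDim R M ≠ ⊥ := Module.supportDim_ne_bot_of_nontrivial R M
  have h2 := Module.supportDim_le_ringKrullDim R M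
  cases h : Module.supportDim R M with
  | bot => exact absurd h h1
  | coe v =>
    cases v with
    | top => rw [h] at h2; exact absurd (top_le_iff.mp h2) ringKrullDim_ne_top
    | coe n => exact ⟨n, rfl⟩

theorem idealDepth_le_supportDim {M : Type u} [AddCommGroup M] [Module A M] [Module.Finite A M] {I : Ideal A}
    (p : PrimeSpectrum A) (hIp : I ≤ p.asIdeal) (hp : p ∈ Module.support A M) :
    ((LocCoh.idealDepth I M : ℕ∞) : WithBot ℕ∞) ≤
      Module.supportDim (Localization.AtPrime p.asIdeal) (LocalizedModule p.asIdeal.primeCompl M) := by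
  haveI := Module.mem_support_iff.mp hp
  obtain ⟨n, hn⟩ := exists_nat_supportDim (R := Localization.AtPrime p.asIdeal) (LocalizedModule p.asIdeal.primeCompl M)
  rw [hn, show ((n : ℕ) : WithBot ℕ∞) = ((n : ℕ∞) : WithBot ℕ∞) from rfl, WithBot.coe_le_coe]
  refine ENat.forall_natCast_le_iff_le.1 fun j hj => ?_
  exact ((LocH.le_idealDepth_iff_forall_prime I M j).1 hj p hIp).trans (InvFin.depth_le_supportDim _ hn)

theorem le_idealDepth_of_hasSk {k : ℕ} {M : Type u} [AddCommGroup M] [Module A M] [Module.Finite A M] {I : Ideal A}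
    (hS : LocCoh.HasSk k A M)
    (hcodim : ∀ p : PrimeSpectrum A, I ≤ p.asIdeal → p ∈ Module.support A M →
      (k : WithBot ℕ∞) ≤ Module.supportDim (Localization.AtPrime p.asIdeal) (LocalizedModule p.asIdeal.primeCompl M)) :
    (k : ℕ∞) ≤ LocCoh.idealDepth I M := by
  rw [LocH.le_idealDepth_iff_forall_prime]
  intro p hp
  by_cases hs : p ∈ Module.support A M
  · have := hS p.asIdeal
    rw [min_eq_left (hcodim p hp hs)] at this
    exact WithBot.coe_le_coe.mp this
  · rw [depth_eq_top_of_not_mem_support p hs]; exact le_top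

end Groth.Agent.QGorD
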