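import Groth.Agent.LocH.DepthMisc
import Groth.Agent.LocH.Depth
import Groth.Agent.LocalCrit.Basic
import Mathlib

/-!
Height and depth of an extended ideal along a flat map whose image contains `V(I)`.
-/

universe u

open TensorProduct RingTheory.Sequence

namespace Groth.Agent.QGorD

variable {A B : Type u} [CommRing A] [CommRing B] [IsNoetherianRing A] [IsNoetherianRing B] [Algebra A B]
  [Module.Flat A B] {I : Ideal A}

theorem height_map_eq_of_surj
    (hI : ∀ p : PrimeSpectrum A, I ≤ p.asIdeal → ∃ q : PrimeSpectrum B, q.asIdeal.comap (algebraMap A B) = p.asIdeal) :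
    (I.map (algebraMap A B)).height = I.height := by
  refine le_antisymm ?_ ?_
  · rw [Ideal.height_eq_inf_minimalPrimes (I := I)]
    refine le_iInf₂ fun p hp => ?_
    haveI := hp.1.1
    obtain ⟨q, hq⟩ := hI ⟨p, hp.1.1⟩ hp.1.2
    obtain ⟨P, hP, hPq⟩ := Ideal.exists_minimalPrimes_le (I := p.map (algebraMap A B)) (J := q.asIdeal)
      (Ideal.map_le_iff_le_comap.2 hq.ge)
    haveI := hP.1.1
    haveI : P.LiesOver p := ⟨le_antisymm (Ideal.map_le_iff_le_comap.1 hP.1.2) ((Ideal.comap_mono hPq).trans hq.le)⟩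
    calc (I.map (algebraMap A B)).height ≤ P.height := Ideal.height_mono ((Ideal.map_mono hp.1.2).trans hP.1.2)
      _ ≤ p.height + (P.map (Ideal.Quotient.mk (p.map (algebraMap A B)))).height :=
          Ideal.height_le_height_add_of_liesOver p P
      _ = p.height := by
          haveI : (P.map (Ideal.Quotient.mk (p.map (algebraMap A B)))).IsPrime :=
            Ideal.map_isPrime_of_surjective Ideal.Quotient.mk_surjective (by rw [Ideal.mk_ker]; exact hP.1.2)
          rw [(Ideal.height_eq_zero_iff (I := P.map (Ideal.Quotient.mk (p.map (algebraMap A B))))).2 ?_, add_zero]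
          refine ⟨⟨inferInstance, bot_le⟩, fun Q hQ hle => ?_⟩
          haveI := hQ.1
          have h := hP.2 ⟨(inferInstance : (Q.comap (Ideal.Quotient.mk (p.map (algebraMap A B)))).IsPrime),
            (Ideal.mk_ker (I := p.map (algebraMap A B))).symm.le.trans
              (Ideal.comap_mono (bot_le : (⊥ : Ideal (B ⧸ p.map (algebraMap A B))) ≤ Q))⟩
            ((Ideal.comap_mono hle).trans (le_of_eq (by
              rw [Ideal.comap_map_of_surjective _ Ideal.Quotient.mk_surjective, ← RingHom.ker_eq_comap_bot,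
                Ideal.mk_ker, sup_eq_left]
              exact hP.1.2)))
          exact Ideal.map_le_iff_le_comap.2 h
  · rw [Ideal.height_eq_inf_minimalPrimes (I := I.map (algebraMap A B))]
    refine le_iInf₂ fun P hP => ?_
    haveI := hP.1.1
    haveI : P.LiesOver (P.comap (algebraMap A B)) := ⟨rfl⟩
    rw [Ideal.height_eq_height_add_of_liesOver_of_hasGoingDown (P.comap (algebraMap A B)) P]
    exact (Ideal.height_mono (Ideal.map_le_iff_le_comap.1 hP.1.2)).trans (self_le_add_right _ _)

theorem idealDepth_baseChange_eq_of_surj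
    (hI : ∀ p : PrimeSpectrum A, I ≤ p.asIdeal → ∃ q : PrimeSpectrum B, q.asIdeal.comap (algebraMap A B) = p.asIdeal)
    (M : Type u) [AddCommGroup M] [Module A M] [Module.Finite A M] :
    LocCoh.idealDepth (I.map (algebraMap A B)) (B ⊗[A] M) = LocCoh.idealDepth I M := by
  refine le_antisymm ?_ (LocH.idealDepth_le_baseChange I M)
  by_cases hIM : I • (⊤ : Submodule A M) = ⊤
  · rw [show LocCoh.idealDepth I M = ⊤ by rw [LocCoh.idealDepth, if_pos hIM]]
    exact le_top
  refine ENat.forall_natCast_le_iff_le.1 fun n hn => ?_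
  obtain ⟨t, ht⟩ := ENat.ne_top_iff_exists.1 (LocH.idealDepth_ne_top hIM)
  obtain ⟨rs, hlen, hrs, hmem⟩ := LocH.exists_isWeaklyRegular I t M ((LocH.le_idealDepth_iff I M t).1 ht.le)
  rw [← ht, Nat.cast_le]
  by_contra hlt
  let N := M ⧸ (Ideal.ofList rs • ⊤ : Submodule A M)
  obtain ⟨z, hz0, hz⟩ : ∃ z : N, z ≠ 0 ∧ ∀ a ∈ I, a • z = 0 := by
    by_contra hcon
    push_neg at hcon
    have hbot : DRing.torsionSub (I.map (algebraMap A A)) N = ⊥ := by
      rw [Algebra.algebraMap_self, Ideal.map_id, Submodule.eq_bot_iff]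
      rintro x ⟨n, hn⟩
      induction n generalizing x with
      | zero => simpa using hn 1 (by simp)
      | succ n ih =>
        refine ih x fun a ha => ?_
        by_contra hne
        obtain ⟨b, hb, hb0⟩ := hcon _ hne
        exact hb0 (by rw [← mul_smul]; exact hn _ (by rw [pow_succ']; exact Ideal.mul_mem_mul hb ha))
    obtain ⟨r, hr, hreg⟩ := S11610.result A A I N hbot
    replace hreg : IsSMulRegular N r := hreg
    have h1 : ((t + 1 : ℕ) : ℕ∞) ≤ LocCoh.idealDepth I M := (LocH.le_idealDepth_iff _ _ _).2 fun i hi =>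
      LocH.subsingleton_of_isWeaklyRegular I (rs ++ [r]) M
        ((isWeaklyRegular_append_iff M rs [r]).2 ⟨hrs, IsWeaklyRegular.cons hreg (IsWeaklyRegular.nil A _)⟩)
        (fun s hs => (List.mem_append.1 hs).elim (hmem s) fun h => by rwa [List.mem_singleton.1 h]) i (by simpa [hlen] using hi)
    rw [← ht, Nat.cast_le] at h1
    omega
  rw [LocH.le_idealDepth_iff] at hn
  have hrsS : IsWeaklyRegular (B ⊗[A] M) (rs.map (algebraMap A B)) :=
    hrs.of_flat_of_isBaseChange (TensorProduct.isBaseChange A M B)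
  obtain ⟨rs', hlen', hreg', hmem'⟩ := LocH.exists_isWeaklyRegular_append _ 1 _ (B ⊗[A] M) hrsS
    (fun r hr => by
      obtain ⟨a, ha, rfl⟩ := List.mem_map.1 hr
      exact Ideal.mem_map_of_mem _ (hmem a ha))
    (fun i hi => hn i (by rw [List.length_map, hlen] at hi; omega))
  obtain ⟨r, rfl⟩ := List.length_eq_one_iff.1 hlen'
  have hreg : IsSMulRegular _ r :=
    ((isWeaklyRegular_cons_iff _ _ _).1 ((isWeaklyRegular_append_iff _ _ _).1 hreg').2).1
  obtain ⟨m, rfl⟩ := Submodule.Quotient.mk_surjective _ z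
  let P : Submodule B (B ⊗[A] M) := Ideal.ofList (rs.map (algebraMap A B)) • ⊤
  let W : Submodule A M := Ideal.ofList rs • ⊤
  let φ : B ⊗[A] M →ₗ[B] B ⊗[A] N := (W.mkQ).baseChange B
  have hφ : P ≤ LinearMap.ker φ := by
    refine Submodule.smul_le.2 fun b hb w _ => ?_
    rw [LinearMap.mem_ker, map_smul]
    rw [← Ideal.map_ofList] at hb
    refine Submodule.span_induction (p := fun c _ => c • φ w = 0) (fun c hc => ?_) (zero_smul _ _)
      (fun a b _ _ ha hb => by rw [add_smul, ha, hb, add_zero])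
      (fun c a _ ha => by rw [smul_eq_mul, mul_smul, ha, smul_zero]) hb
    obtain ⟨a, ha, rfl⟩ := hc
    rw [algebraMap_smul]
    generalize φ w = y
    induction y using TensorProduct.induction_on with
    | zero => rw [smul_zero]
    | tmul s n =>
      obtain ⟨n, rfl⟩ := Submodule.Quotient.mk_surjective _ n
      rw [← TensorProduct.tmul_smul, ← Submodule.Quotient.mk_smul,
        (Submodule.Quotient.mk_eq_zero _).2 (Submodule.smul_mem_smul ha Submodule.mem_top), TensorProduct.tmul_zero]
    | add x y hx hy => rw [smul_add, hx, hy, add_zero]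
  have hne : P.mkQ (1 ⊗ₜ[A] m) ≠ 0 := fun h0 => by
    have h1 : (1 : B) ⊗ₜ[A] (W.mkQ m) = 0 := hφ ((Submodule.Quotient.mk_eq_zero P).1 h0)
    let l : A →ₗ[A] N := LinearMap.toSpanSingleton A N (W.mkQ m)
    let K : Ideal A := LinearMap.ker l
    have hK : K ≠ ⊤ := fun h => hz0 (by
      have : (1 : A) ∈ K := h ▸ Submodule.mem_top
      have h2 : (1 : A) • W.mkQ m = 0 := this
      rwa [one_smul] at h2)
    have hIK : I ≤ K := fun a ha => hz a ha
    obtain ⟨p, hp, hKp⟩ := Ideal.exists_le_maximal K hK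
    obtain ⟨q, hq⟩ := hI ⟨p, hp.isPrime⟩ (hIK.trans hKp)
    have hinj : Function.Injective ((K.liftQ l le_rfl).lTensor B) :=
      Module.Flat.lTensor_preserves_injective_linearMap _ (by
        rw [← LinearMap.ker_eq_bot]; exact Submodule.ker_liftQ_eq_bot _ _ _ le_rfl)
    have h2 : (1 : B) ⊗ₜ[A] (1 : A ⧸ K) = 0 := hinj (by
      rw [map_zero, LinearMap.lTensor_tmul]
      show (1 : B) ⊗ₜ[A] ((1 : A) • W.mkQ m) = 0
      rw [one_smul]; exact h1)
    have h3 : (1 : B) ∈ K • (⊤ : Submodule A B) := by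
      rw [← LocalCrit.one_tmul_eq_zero_iff, ← (TensorProduct.comm A (A ⧸ K) B).map_eq_zero_iff, TensorProduct.comm_tmul]
      exact h2
    refine q.2.ne_top ((Ideal.eq_top_iff_one _).2 ?_)
    refine Submodule.smul_induction_on (p := fun c => c ∈ q.asIdeal) h3 (fun a ha c _ => ?_) fun c d hc hd => add_mem hc hd
    rw [Algebra.smul_def]
    have ha' : a ∈ q.asIdeal.comap (algebraMap A B) := hq.symm ▸ hKp ha
    exact Ideal.mul_mem_right _ _ ha'
  have hrI : r ∈ I.map (algebraMap A B) := hmem' r (by simp)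
  refine hne (hreg.right_eq_zero_of_smul ?_)
  refine Submodule.span_induction (p := fun c _ => c • P.mkQ (1 ⊗ₜ[A] m) = 0) (fun c hc => ?_) (zero_smul _ _)
    (fun a b _ _ ha hb => by rw [add_smul, ha, hb, add_zero])
    (fun c a _ ha => by rw [smul_eq_mul, mul_smul, ha, smul_zero]) hrI
  obtain ⟨a, ha, rfl⟩ := hc
  rw [← map_smul, algebraMap_smul, ← TensorProduct.tmul_smul]
  refine (Submodule.Quotient.mk_eq_zero P).2 ?_
  refine Submodule.smul_induction_on (p := fun w => (1 : B) ⊗ₜ[A] w ∈ P) ((Submodule.Quotient.mk_eq_zero W).1 (hz a ha)) (fun b hb w _ => ?_) fun x y hx hy => by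
    rw [TensorProduct.tmul_add]; exact Submodule.add_mem _ hx hy
  rw [TensorProduct.tmul_smul, ← algebraMap_smul B b]
  refine Submodule.smul_mem_smul ?_ Submodule.mem_top
  rw [← Ideal.map_ofList]
  exact Ideal.mem_map_of_mem _ hb

end Groth.Agent.QGorD
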