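import Groth.Agent.QGorD.Skn

/-!
Torsion lifting through a module of depth at least two.
-/

universe u

namespace Groth.Agent.QGorD

variable {A : Type u} [CommRing A]

theorem regMod_pow {M : Type u} [AddCommGroup M] [Module A M] {x y : A} (h : RegMod M x y) :
    ∀ k : ℕ, RegMod M x (y ^ k)
  | 0 => fun m n hmn => ⟨n, by rwa [pow_zero, one_smul] at hmn⟩
  | k + 1 => fun m n hmn => by
    rw [pow_succ', mul_smul] at hmn
    obtain ⟨n', hn'⟩ := h _ _ hmn
    exact regMod_pow h k m n' hn'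

theorem regMod_of_equiv {M N : Type u} [AddCommGroup M] [Module A M] [AddCommGroup N] [Module A N]
    (e : M ≃ₗ[A] N) {x y : A} (h : RegMod M x y) : RegMod N x y := fun m n hmn => by
  obtain ⟨n', hn'⟩ := h (e.symm m) (e.symm n) (by rw [← map_smul, hmn, map_smul])
  exact ⟨e n', by rw [← map_smul, ← hn', e.apply_symm_apply]⟩

theorem regular_of_equiv {M N : Type u} [AddCommGroup M] [Module A M] [AddCommGroup N] [Module A N]
    (e : M ≃ₗ[A] N) {x : A} (h : IsSMulRegular M x) : IsSMulRegular N x := fun a b hab =>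
  e.symm.injective (h (by
    change x • e.symm a = x • e.symm b
    rw [← map_smul, ← map_smul]
    exact congrArg e.symm hab))

theorem eq_zero_of_regular_of_torsion {M : Type u} [AddCommGroup M] [Module A M] {x : A}
    (h : IsSMulRegular M x) {z : M} (hz : ∃ k : ℕ, x ^ k • z = 0) : z = 0 := by
  obtain ⟨k, hk⟩ := hz
  exact (h.pow k) (hk.trans (smul_zero _).symm)

variable [IsNoetherianRing A]

theorem mem_range_of_torsion {I : Ideal A} {X Y : Type u} [AddCommGroup X] [Module A X] [Module.Finite A X]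
    [AddCommGroup Y] [Module A Y] (i : X →ₗ[A] Y) (hi : Function.Injective i)
    (hX : 2 ≤ LocCoh.idealDepth I X) {x : A} (hx : x ∈ I) (hrX : IsSMulRegular X x)
    (hrY : IsSMulRegular Y x) {z : Y} (hz : ∀ a ∈ I, ∃ k : ℕ, a ^ k • z ∈ LinearMap.range i) :
    z ∈ LinearMap.range i := by
  obtain ⟨k, f, hf⟩ := hz x hx
  obtain ⟨y, hy, hm⟩ := exists_regMod_of_two_le hX (I.pow_mem_of_mem hx (k + 1) k.succ_pos) (hrX.pow (k + 1))
  obtain ⟨l, g, hg⟩ := hz y hy
  obtain ⟨f', hf'⟩ := regMod_pow hm l (x • f) g (hi (by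
    rw [map_smul, map_smul, map_smul, hf, hg, smul_smul, smul_smul, smul_smul]
    congr 1
    rw [pow_succ]
    ring))
  refine ⟨f', (hrY.pow (k + 1)) ?_⟩
  change x ^ (k + 1) • i f' = x ^ (k + 1) • z
  rw [← map_smul, ← hf', map_smul, hf, smul_smul, ← pow_succ']

end Groth.Agent.QGorD
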