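import Groth.Agent.QGorD.FibBridge
import Groth.Agent.QGorD.Lift
import Mathlib.RingTheory.LocalRing.ResidueField.Ideal
import Mathlib.LinearAlgebra.Basis.VectorSpace
import Mathlib.RingTheory.Localization.BaseChange

/-!
Depth two of the fibres is stable under base change.
-/

universe u

open TensorProduct

namespace Groth.Agent.QGorD

theorem rTensor_eq {A B : Type u} [CommRing A] [CommRing B] [Algebra A B] {M N : Type u} [AddCommGroup M] [Module B M]
    [Module A M] [IsScalarTower A B M] [AddCommGroup N] [Module B N] [Module A N] [IsScalarTower A B N]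
    (V : Type u) [AddCommGroup V] [Module A V] (f : M →ₗ[B] N) (z : M ⊗[A] V) :
    AlgebraTensorModule.rTensor A V f z = (f.restrictScalars A).rTensor V z := by
  induction z using TensorProduct.induction_on with
  | zero => simp only [map_zero]
  | tmul m v => simp only [AlgebraTensorModule.rTensor_tmul, LinearMap.rTensor_tmul, LinearMap.restrictScalars_apply]
  | add p q hp hq => simp only [map_add, hp, hq]

section Field

variable {A R : Type u} [CommRing A] [CommRing R] [Algebra A R] (K : Type u) [Field K] [Algebra A K] [Algebra K R]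
  [IsScalarTower A K R]

include K

theorem injective_rTensor_smul {X : Type u} [AddCommGroup X] [Module R X] [Module A X] [IsScalarTower A R X]
    {y : R} (hy : IsSMulRegular X y) (V : Type u) [AddCommGroup V] [Module A V] :
    Function.Injective (AlgebraTensorModule.rTensor A V (LinearMap.lsmul R X y)) := by
  letI : Module K X := Module.compHom X (algebraMap K R)
  haveI : IsScalarTower A K X := IsScalarTower.of_algebraMap_smul fun a z => by
    change algebraMap K R (algebraMap A K a) • z = a • z
    rw [← IsScalarTower.algebraMap_apply, algebraMap_smul]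
  let l : X →ₗ[K] X :=
    { toFun := fun z => y • z
      map_add' := smul_add y
      map_smul' := fun c z => smul_comm y (algebraMap K R c) z }
  obtain ⟨g, hg⟩ := l.exists_leftInverse_of_injective (LinearMap.ker_eq_bot.2 hy)
  refine Function.LeftInverse.injective (g := (g.restrictScalars A).rTensor V) fun z => ?_
  induction z using TensorProduct.induction_on with
  | zero => simp
  | tmul m v =>
    change (g (l m)) ⊗ₜ[A] v = m ⊗ₜ v
    rw [← LinearMap.comp_apply, hg, LinearMap.id_apply]
  | add p q hp hq => simp only [map_add, hp, hq]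

theorem regular_tensor {X : Type u} [AddCommGroup X] [Module R X] [Module A X] [IsScalarTower A R X]
    {x y : R} (hx : IsSMulRegular X x) (hm : RegMod X x y) (V : Type u) [AddCommGroup V] [Module A V] :
    IsSMulRegular (X ⊗[A] V) x ∧ RegMod (X ⊗[A] V) x y := by
  have hs : ∀ {Y : Type u} [AddCommGroup Y] [Module R Y] [Module A Y] [IsScalarTower A R Y] (r : R) (z : Y ⊗[A] V),
      AlgebraTensorModule.rTensor A V (LinearMap.lsmul R Y r) z = r • z := fun r z => by
    induction z using TensorProduct.induction_on with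
    | zero => simp
    | tmul m v => rw [AlgebraTensorModule.rTensor_tmul, TensorProduct.smul_tmul']; rfl
    | add p q hp hq => simp only [map_add, smul_add, hp, hq]
  constructor
  · intro a b hab
    exact injective_rTensor_smul K hx V ((hs x a).trans (hab.trans (hs x b).symm))
  · intro m n hmn
    let π : X →ₗ[R] QuotSMulTop x X := Submodule.mkQ _
    have hπ : Function.Surjective π := Submodule.mkQ_surjective _
    have hmem : ∀ z, π z = 0 ↔ ∃ c, x • c = z := fun z =>
      (Submodule.Quotient.mk_eq_zero _).trans ⟨fun h => by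
        obtain ⟨c, -, hc⟩ := (Submodule.mem_smul_pointwise_iff_exists _ _ _).1 h
        exact ⟨c, hc⟩, fun ⟨c, hc⟩ => (Submodule.mem_smul_pointwise_iff_exists _ _ _).2 ⟨c, trivial, hc⟩⟩
    have hy : IsSMulRegular (QuotSMulTop x X) y :=
      isSMulRegular_iff_right_eq_zero_of_smul.2 fun z hz => by
        obtain ⟨z, rfl⟩ : ∃ w, π w = z := Submodule.mkQ_surjective _ z
        rw [← map_smul, hmem] at hz
        obtain ⟨c, hc⟩ := hz
        obtain ⟨d, hd⟩ := hm z c hc.symm
        exact (hmem z).2 ⟨d, hd.symm⟩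
    have hπx : ∀ z : X ⊗[A] V, AlgebraTensorModule.rTensor A V π (x • z) = 0 := fun z => by
      induction z using TensorProduct.induction_on with
      | zero => simp
      | tmul p v =>
        rw [TensorProduct.smul_tmul', AlgebraTensorModule.rTensor_tmul, Submodule.mkQ_apply,
          (Submodule.Quotient.mk_eq_zero _).2 (Submodule.smul_mem_pointwise_smul _ _ _ Submodule.mem_top), zero_tmul]
      | add p q hp hq => simp only [map_add, smul_add, hp, hq, add_zero]
    have h0 : AlgebraTensorModule.rTensor A V π m = 0 := by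
      apply injective_rTensor_smul K hy V
      rw [map_zero, hs, ← map_smul, hmn, hπx]
    have hex : Function.Exact ((LinearMap.lsmul R X x).restrictScalars A) (π.restrictScalars A) := fun z => hmem z
    have h0' : (π.restrictScalars A).rTensor V m = 0 := (rTensor_eq V π m).symm.trans h0
    obtain ⟨c, hc⟩ := (rTensor_exact (f := (LinearMap.lsmul R X x).restrictScalars A) (g := π.restrictScalars A) V hex hπ m).1 h0'
    refine ⟨c, ?_⟩
    rw [← hs x c, rTensor_eq]
    exact hc.symm

end Field

/-- `x, y` is regular on `M` at `q`, in terms of elements. -/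
def RegAt {B : Type u} [CommRing B] (M : Type u) [AddCommGroup M] [Module B M] (q : Ideal B) (x y : B) : Prop :=
  (∀ m : M, x • m = 0 → ∃ u ∉ q, u • m = 0) ∧ ∀ m n : M, y • m = x • n → ∃ u ∉ q, ∃ c, u • m = x • c

theorem regAt_of_equiv {B : Type u} [CommRing B] {M N : Type u} [AddCommGroup M] [Module B M] [AddCommGroup N]
    [Module B N] (e : M ≃ₗ[B] N) {q : Ideal B} {x y : B} (h : RegAt M q x y) : RegAt N q x y := by
  refine ⟨fun m hm => ?_, fun m n hmn => ?_⟩
  · obtain ⟨u, hu, h0⟩ := h.1 (e.symm m) (by rw [← map_smul, hm, map_zero])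
    exact ⟨u, hu, e.symm.injective (by rw [map_smul, h0, map_zero])⟩
  · obtain ⟨u, hu, c, hc⟩ := h.2 (e.symm m) (e.symm n) (by rw [← map_smul, hmn, map_smul])
    exact ⟨u, hu, e c, e.symm.injective (by rw [map_smul, map_smul, hc, e.symm_apply_apply])⟩

theorem regAt_of_localized {B : Type u} [CommRing B] {M N : Type u} [AddCommGroup M] [Module B M] [AddCommGroup N]
    [Module B N] {q : Ideal B} [q.IsPrime] (f : M →ₗ[B] N) [IsLocalizedModule q.primeCompl f] {x y : B}
    (hx : IsSMulRegular N x) (hm : RegMod N x y) : RegAt M q x y := by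
  refine ⟨fun m h0 => ?_, fun m n hmn => ?_⟩
  · have h1 : f m = f 0 := hx (by
      change x • f m = x • f 0
      rw [← map_smul, ← map_smul, h0, smul_zero])
    obtain ⟨u, hu⟩ := IsLocalizedModule.exists_of_eq (S := q.primeCompl) h1
    exact ⟨u, u.2, by rwa [smul_zero] at hu⟩
  · obtain ⟨c, hc⟩ := hm (f m) (f n) (by rw [← map_smul, hmn, map_smul])
    obtain ⟨⟨c', s⟩, hs⟩ := IsLocalizedModule.surj q.primeCompl f c
    have h1 : f ((s : B) • m) = f (x • c') := by
      rw [map_smul, map_smul, hc, ← hs, smul_comm, Submonoid.smul_def]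
    obtain ⟨t, ht⟩ := IsLocalizedModule.exists_of_eq (S := q.primeCompl) h1
    refine ⟨t * s, (t * s).2, (t : B) • c', ?_⟩
    rw [mul_smul, smul_comm x]
    exact ht

/-- Regularity at `q` gives regularity of the localisation at a prime over `q`. -/
theorem regular_localized_of_regAt {B B' : Type u} [CommRing B] [CommRing B'] [Algebra B B']
    {M : Type u} [AddCommGroup M] [Module B' M] [Module B M] [IsScalarTower B B' M] (Q : Ideal B') [Q.IsPrime]
    {x y : B} (h : RegAt M (Q.comap (algebraMap B B')) x y) :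
    IsSMulRegular (LocalizedModule Q.primeCompl M) (algebraMap B B' x) ∧
      RegMod (LocalizedModule Q.primeCompl M) (algebraMap B B' x) (algebraMap B B' y) := by
  let g := LocalizedModule.mkLinearMap Q.primeCompl M
  have hu : ∀ {s : B'}, s ∉ Q → Function.Injective fun z : LocalizedModule Q.primeCompl M => s • z :=
    fun {s} hs => ((Module.End.isUnit_iff _).1 (IsLocalizedModule.map_units g (⟨s, hs⟩ : Q.primeCompl))).1
  constructor
  · refine isSMulRegular_iff_right_eq_zero_of_smul.2 fun z hz => ?_
    obtain ⟨⟨m, s⟩, hs⟩ := IsLocalizedModule.surj Q.primeCompl g z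
    have h1 : g (algebraMap B B' x • m) = g 0 := by
      rw [map_smul, ← hs, Submonoid.smul_def, smul_comm, hz, smul_zero, map_zero]
    obtain ⟨t, ht⟩ := IsLocalizedModule.exists_of_eq (S := Q.primeCompl) h1
    rw [smul_zero, Submonoid.smul_def, algebraMap_smul, ← smul_comm x] at ht
    obtain ⟨u, hu', h0⟩ := h.1 _ ht
    refine hu (s := algebraMap B B' u * (t : B') * s) ?_ ?_
    · exact Q.primeCompl.mul_mem (Q.primeCompl.mul_mem hu' t.2) s.2
    · change (algebraMap B B' u * (t : B') * s) • z = (algebraMap B B' u * (t : B') * s) • (0 : LocalizedModule Q.primeCompl M)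
      rw [smul_zero, mul_smul, ← Submonoid.smul_def, hs, mul_smul, ← map_smul, ← map_smul, algebraMap_smul, h0, map_zero]
  · intro a b hab
    obtain ⟨⟨m, s⟩, hs⟩ := IsLocalizedModule.surj Q.primeCompl g a
    obtain ⟨⟨n, s'⟩, hs'⟩ := IsLocalizedModule.surj Q.primeCompl g b
    have h1 : g (algebraMap B B' y • (s' : B') • m) = g (algebraMap B B' x • (s : B') • n) := by
      simp only [map_smul, ← hs, ← hs', Submonoid.smul_def]
      rw [smul_comm (s : B') (s' : B'), smul_comm (algebraMap B B' x) (s' : B'), smul_comm (algebraMap B B' x) (s : B'),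
        ← hab, smul_comm (algebraMap B B' y) (s' : B'), smul_comm (algebraMap B B' y) (s : B')]
    obtain ⟨t, ht⟩ := IsLocalizedModule.exists_of_eq (S := Q.primeCompl) h1
    simp only [Submonoid.smul_def, algebraMap_smul] at ht
    rw [← smul_comm y, ← smul_comm x] at ht
    obtain ⟨u, hu', c, hc⟩ := h.2 _ _ ht
    let w : Q.primeCompl := ⟨algebraMap B B' u, hu'⟩ * t * s' * s
    refine ⟨IsLocalizedModule.mk' g c w, hu (s := (w : B')) w.2 ?_⟩
    change (w : B') • a = (w : B') • (algebraMap B B' x • IsLocalizedModule.mk' g c w)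
    rw [smul_comm (w : B') (algebraMap B B' x), ← Submonoid.smul_def w (IsLocalizedModule.mk' g c w),
      IsLocalizedModule.mk'_cancel']
    simp only [w, Submonoid.coe_mul]
    rw [mul_smul, ← Submonoid.smul_def s a, hs, ← map_smul, ← map_smul, mul_smul, mul_smul, algebraMap_smul,
      algebraMap_smul, hc]

variable {A B : Type u} [CommRing A] [CommRing B] [Algebra A B] [IsNoetherianRing B]

theorem nontrivial_fibLocRing (q : Ideal B) [q.IsPrime] :
    (q.comap (algebraMap A B)).map (algebraMap A (Localization.AtPrime q)) ≤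
      IsLocalRing.maximalIdeal (Localization.AtPrime q) := by
  rw [IsScalarTower.algebraMap_eq A B (Localization.AtPrime q), ← Ideal.map_map,
    ← Localization.AtPrime.map_eq_maximalIdeal]
  exact Ideal.map_mono Ideal.map_comap_le

theorem hunit_fibLocRing (q : Ideal B) [q.IsPrime] (s : q.primeCompl) :
    IsUnit (algebraMap B (EGA4.FibLocRing A B q) (s : B)) := by
  rw [IsScalarTower.algebraMap_apply B (Localization.AtPrime q) (EGA4.FibLocRing A B q)]
  exact (IsLocalization.map_units (Localization.AtPrime q) s).map _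

theorem exists_lift_mem (q : Ideal B) [q.IsPrime] (r : EGA4.FibLocRing A B q)
    (hr : r ∈ q.map (algebraMap B (EGA4.FibLocRing A B q))) :
    ∃ (b : B) (s : q.primeCompl), b ∈ q ∧ r * algebraMap B _ (s : B) = algebraMap B _ b := by
  obtain ⟨r, rfl⟩ := Ideal.Quotient.mk_surjective r
  rw [IsScalarTower.algebraMap_eq B (Localization.AtPrime q) (EGA4.FibLocRing A B q), ← Ideal.map_map,
    Localization.AtPrime.map_eq_maximalIdeal, Ideal.Quotient.algebraMap_eq,
    Ideal.mem_quotient_iff_mem (nontrivial_fibLocRing q)] at hr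
  obtain ⟨⟨b, s⟩, hb⟩ := IsLocalization.surj q.primeCompl r
  refine ⟨b, s, (IsLocalization.AtPrime.to_map_mem_maximal_iff (Localization.AtPrime q) q b).1
    (hb ▸ Ideal.mul_mem_right _ _ hr), ?_⟩
  rw [IsScalarTower.algebraMap_apply B (Localization.AtPrime q) (EGA4.FibLocRing A B q),
    IsScalarTower.algebraMap_apply B (Localization.AtPrime q) (EGA4.FibLocRing A B q) b, ← hb, map_mul]
  rfl

theorem exists_residue_algebra (q : Ideal B) [q.IsPrime] :
    ∃ φ : (q.comap (algebraMap A B)).ResidueField →+* EGA4.FibLocRing A B q,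
      φ.comp (algebraMap A _) = algebraMap A (EGA4.FibLocRing A B q) := by
  have hker : q.comap (algebraMap A B) ≤ RingHom.ker (algebraMap A (EGA4.FibLocRing A B q)) := fun a ha => by
    rw [RingHom.mem_ker, IsScalarTower.algebraMap_apply A (Localization.AtPrime q) (EGA4.FibLocRing A B q)]
    exact Ideal.Quotient.eq_zero_iff_mem.2 (Ideal.mem_map_of_mem _ ha)
  have hcompl : (q.comap (algebraMap A B)).primeCompl ≤
      (IsUnit.submonoid (EGA4.FibLocRing A B q)).comap (algebraMap A (EGA4.FibLocRing A B q)) := fun a ha => by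
    change IsUnit (algebraMap A (EGA4.FibLocRing A B q) a)
    rw [IsScalarTower.algebraMap_apply A B (EGA4.FibLocRing A B q)]
    exact hunit_fibLocRing q ⟨algebraMap A B a, ha⟩
  exact ⟨Ideal.ResidueField.lift (q.comap (algebraMap A B)) _ hker hcompl,
    RingHom.ext fun a => Ideal.ResidueField.lift_algebraMap _ _ hker hcompl a⟩

theorem regAt_tensor {R X M : Type u} [CommRing R] [Algebra A R] [Algebra B R]
    (K : Type u) [Field K] [Algebra A K] [Algebra K R] [IsScalarTower A K R]
    [AddCommGroup X] [Module R X] [Module A X] [IsScalarTower A R X] [Module B X] [IsScalarTower B R X] [IsScalarTower A B X]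
    [AddCommGroup M] [Module B M] [Module A M] [IsScalarTower A B M]
    {q : Ideal B} [q.IsPrime] (f : M →ₗ[B] X) [IsLocalizedModule q.primeCompl f] {x y : B}
    (hx : IsSMulRegular X (algebraMap B R x)) (hm : RegMod X (algebraMap B R x) (algebraMap B R y))
    (V : Type u) [AddCommGroup V] [Module A V] : RegAt (M ⊗[A] V) q x y := by
  obtain ⟨h1, h2⟩ := regular_tensor (A := A) (R := R) K hx hm V
  have hb : ∀ (b : B) (z : X ⊗[A] V), algebraMap B R b • z = b • z := fun b z => by
    induction z using TensorProduct.induction_on with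
    | zero => simp
    | tmul m v => rw [TensorProduct.smul_tmul', TensorProduct.smul_tmul', algebraMap_smul]
    | add p q hp hq => simp only [smul_add, hp, hq]
  refine regAt_of_localized (AlgebraTensorModule.rTensor A V f) (fun a b hab => h1 ?_) (fun m n hmn => ?_)
  · change algebraMap B R x • a = algebraMap B R x • b
    rw [hb, hb]; exact hab
  · obtain ⟨c, hc⟩ := h2 m n (by rw [hb, hb]; exact hmn)
    exact ⟨c, by rw [← hb]; exact hc⟩

theorem exists_regAt (E : Type u) [AddCommGroup E] [Module B E] [Module A E] [IsScalarTower A B E] [Module.Finite B E]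
    (q : Ideal B) [q.IsPrime]
    (h : 2 ≤ LocCoh.idealDepth (q.map (algebraMap B (EGA4.FibLocRing A B q))) (EGA4.FibLocMod A B q E))
    (V : Type u) [AddCommGroup V] [Module A V] :
    ∃ x ∈ q, ∃ y ∈ q,
      RegAt ((E ⧸ (q.comap (algebraMap A B)).map (algebraMap A B) • (⊤ : Submodule B E)) ⊗[A] V) q x y := by
  obtain ⟨f, hf⟩ := exists_fibQ (A := A) E q.primeCompl (q.comap (algebraMap A B))
  haveI : Module.Finite (EGA4.FibLocRing A B q) (EGA4.FibLocMod A B q E) :=
    Module.Finite.of_restrictScalars_finite (Localization.AtPrime q) _ _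
  haveI : IsScalarTower B (EGA4.FibLocRing A B q) (EGA4.FibLocMod A B q E) :=
    IsScalarTower.of_algebraMap_smul fun b (z : EGA4.FibLocMod A B q E) => by
      rw [IsScalarTower.algebraMap_apply B (Localization.AtPrime q) (EGA4.FibLocRing A B q),
        algebraMap_smul, algebraMap_smul]
  haveI : IsScalarTower A (EGA4.FibLocRing A B q) (EGA4.FibLocMod A B q E) :=
    IsScalarTower.of_algebraMap_smul fun a (z : EGA4.FibLocMod A B q E) => by
      rw [IsScalarTower.algebraMap_apply A B (EGA4.FibLocRing A B q), algebraMap_smul, algebraMap_smul]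
  obtain ⟨r, hr, hreg⟩ := exists_regular_of_one_le _ _ (le_trans (by norm_num) h)
  obtain ⟨x, s, hxq, hx⟩ := exists_lift_mem q r hr
  have hxreg : IsSMulRegular (EGA4.FibLocMod A B q E) (algebraMap B (EGA4.FibLocRing A B q) x) := by
    rw [← hx]; exact hreg.mul ((hunit_fibLocRing q s).isSMulRegular _)
  obtain ⟨r', hr', hm⟩ := exists_regMod_of_two_le h (Ideal.mem_map_of_mem _ hxq) hxreg
  obtain ⟨y, t, hyq, hy⟩ := exists_lift_mem q r' hr'
  have hymod : RegMod (EGA4.FibLocMod A B q E) (algebraMap B _ x) (algebraMap B (EGA4.FibLocRing A B q) y) := by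
    intro m n hmn
    rw [← hy, mul_smul] at hmn
    obtain ⟨c, hc⟩ := hm _ n hmn
    refine ⟨(↑(hunit_fibLocRing (A := A) q t).unit⁻¹ : EGA4.FibLocRing A B q) • c, ?_⟩
    rw [smul_comm, ← hc, smul_smul, IsUnit.val_inv_mul, one_smul]
  obtain ⟨φ, hφ⟩ := exists_residue_algebra (A := A) q
  letI : Algebra (q.comap (algebraMap A B)).ResidueField (EGA4.FibLocRing A B q) := φ.toAlgebra
  haveI : IsScalarTower A (q.comap (algebraMap A B)).ResidueField (EGA4.FibLocRing A B q) :=
    IsScalarTower.of_algebraMap_eq' hφ.symm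
  exact ⟨x, hxq, y, hyq, regAt_tensor (R := EGA4.FibLocRing A B q) (X := EGA4.FibLocMod A B q E)
    (q.comap (algebraMap A B)).ResidueField f hxreg hymod V⟩

section Pushout

variable {A' B' : Type u} [CommRing A'] [CommRing B'] [Algebra A A'] [Algebra B B'] [Algebra A' B']
  [Algebra A B'] [IsScalarTower A B B'] [IsScalarTower A A' B'] [Algebra.IsPushout A B A' B']

omit [IsNoetherianRing B] in
theorem tmul_eq_zero_of_mem (M : Type u) [AddCommGroup M] [Module B M] [Module A M] [IsScalarTower A B M] (p : Ideal A)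
    {V : Type u} [AddCommGroup V] [Module A V] (hV : ∀ a ∈ p, ∀ v : V, a • v = 0) {w : M}
    (hw : w ∈ p.map (algebraMap A B) • (⊤ : Submodule B M)) (v : V) : w ⊗ₜ[A] v = 0 := by
  refine Submodule.smul_induction_on (p := fun w => w ⊗ₜ[A] v = 0) hw (fun b hb w _ => ?_)
    fun c d hc hd => by rw [add_tmul, hc, hd, add_zero]
  revert w
  refine Submodule.span_induction (p := fun c _ => ∀ w ∈ (⊤ : Submodule B M), (c • w) ⊗ₜ[A] v = 0) ?_ ?_ ?_ ?_ hb
  · rintro _ ⟨a, ha, rfl⟩ w -
    rw [algebraMap_smul, smul_tmul, hV a ha v, tmul_zero]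
  · intro w _; simp
  · intro c d _ _ hc hd w hw; rw [add_smul, add_tmul, hc w hw, hd w hw, add_zero]
  · intro c d _ hd w hw
    rw [smul_eq_mul, mul_comm, mul_smul]
    exact hd (c • w) Submodule.mem_top

omit [IsNoetherianRing B] in
theorem rTensor_mkQ_bijective (E : Type u) [AddCommGroup E] [Module B E] [Module A E] [IsScalarTower A B E]
    (p : Ideal A) (V : Type u) [AddCommGroup V] [Module A V] (hV : ∀ a ∈ p, ∀ v : V, a • v = 0) :
    Function.Bijective (AlgebraTensorModule.rTensor A V (p.map (algebraMap A B) • (⊤ : Submodule B E)).mkQ) := by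
  let N := p.map (algebraMap A B) • (⊤ : Submodule B E)
  have hex : Function.Exact (N.subtype.restrictScalars A) (N.mkQ.restrictScalars A) :=
    LinearMap.exact_subtype_mkQ _
  have heq := rTensor_eq (A := A) (B := B) V N.mkQ
  have hsurj : Function.Surjective ((N.mkQ.restrictScalars A).rTensor V) :=
    LinearMap.rTensor_surjective V (g := N.mkQ.restrictScalars A) N.mkQ_surjective
  refine ⟨(injective_iff_map_eq_zero _).2 fun z hz => ?_, fun z => (hsurj z).imp fun w hw => (heq w).trans hw⟩
  obtain ⟨w, rfl⟩ := (rTensor_exact V hex N.mkQ_surjective z).1 ((heq z).symm.trans hz)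
  clear hz
  induction w using TensorProduct.induction_on with
  | zero => simp only [map_zero]
  | tmul m v =>
    rw [LinearMap.rTensor_tmul]
    exact tmul_eq_zero_of_mem (B := B) E p hV m.2 v
  | add c d hc hd => rw [map_add, hc, hd, add_zero]

omit [IsNoetherianRing B] in
theorem exists_section (E : Type u) [AddCommGroup E] [Module B E] [Module A E] [IsScalarTower A B E] (p' : Ideal A') :
    ∃ Φ : (B' ⊗[B] E) ⧸ p'.map (algebraMap A' B') • (⊤ : Submodule B' (B' ⊗[B] E)) → E ⊗[A] (A' ⧸ p'),
      ∀ (a : A') (m : E), Φ (Submodule.Quotient.mk (algebraMap A' B' a ⊗ₜ[B] m)) = m ⊗ₜ Ideal.Quotient.mk p' a ∧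
      ∀ v w, Φ (v + w) = Φ v + Φ w := by
  haveI : Algebra.IsPushout A A' B B' := Algebra.IsPushout.symm inferInstance
  let P := p'.map (algebraMap A' B') • (⊤ : Submodule B' (B' ⊗[B] E))
  let e := Algebra.IsPushout.cancelBaseChange A A' B B' E
  let mkA : A' →ₗ[A'] A' ⧸ p' := Submodule.mkQ p'
  let g : B' ⊗[B] E →+ (A' ⧸ p') ⊗[A] E := ((AlgebraTensorModule.rTensor A E mkA).comp e.toLinearMap).toAddMonoidHom
  have hP : P.toAddSubgroup ≤ g.ker := fun z hz => by
    refine Submodule.smul_induction_on (p := fun w => g w = 0) hz (fun b hb w _ => ?_) fun v w hv hw => ?_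
    · revert w
      refine Submodule.span_induction (p := fun c _ => ∀ w ∈ (⊤ : Submodule B' (B' ⊗[B] E)), g (c • w) = 0) ?_ ?_ ?_ ?_ hb
      · rintro _ ⟨a, ha, rfl⟩ w -
        change (AlgebraTensorModule.rTensor A E mkA) (e (algebraMap A' B' a • w)) = 0
        rw [algebraMap_smul, map_smul, map_smul]
        generalize (AlgebraTensorModule.rTensor A E mkA) (e w) = v
        induction v using TensorProduct.induction_on with
        | zero => simp
        | tmul c m =>
          rw [TensorProduct.smul_tmul']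
          obtain ⟨c, rfl⟩ := Ideal.Quotient.mk_surjective c
          rw [show a • Ideal.Quotient.mk p' c = 0 from Ideal.Quotient.eq_zero_iff_mem.2 (p'.mul_mem_right c ha),
            zero_tmul]
        | add v w hv hw => rw [smul_add, hv, hw, add_zero]
      · intro w _; simp
      · intro c d _ _ hc hd w hw; rw [add_smul, map_add, hc w hw, hd w hw, add_zero]
      · intro c d _ hd w hw
        rw [smul_eq_mul, mul_comm, mul_smul]
        exact hd (c • w) Submodule.mem_top
    · rw [map_add, hv, hw, add_zero]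
  let Φ := (TensorProduct.comm A (A' ⧸ p') E).toAddEquiv.toAddMonoidHom.comp (QuotientAddGroup.lift P.toAddSubgroup g hP)
  refine ⟨Φ, fun a m => ⟨?_, map_add Φ⟩⟩
  change TensorProduct.comm A (A' ⧸ p') E ((AlgebraTensorModule.rTensor A E mkA) (e (algebraMap A' B' a ⊗ₜ[B] m))) = _
  rw [← Algebra.IsPushout.cancelBaseChange_symm_tmul A A' B B' E a m, LinearEquiv.apply_symm_apply]
  rfl

omit [IsNoetherianRing B] in
theorem exists_map (E : Type u) [AddCommGroup E] [Module B E] [Module A E] [IsScalarTower A B E] (p' : Ideal A') :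
    ∃ Ψ : E ⊗[A] (A' ⧸ p') →ₗ[B] (B' ⊗[B] E) ⧸ p'.map (algebraMap A' B') • (⊤ : Submodule B' (B' ⊗[B] E)),
      ∀ (a : A') (m : E), Ψ (m ⊗ₜ Ideal.Quotient.mk p' a) = Submodule.Quotient.mk (algebraMap A' B' a ⊗ₜ[B] m) := by
  let P := p'.map (algebraMap A' B') • (⊤ : Submodule B' (B' ⊗[B] E))
  let ψ₀ : E → A' →ₗ[A] (B' ⊗[B] E) ⧸ P := fun m =>
    { toFun := fun a => Submodule.Quotient.mk (algebraMap A' B' a ⊗ₜ[B] m)
      map_add' := fun a b => by rw [map_add, add_tmul, Submodule.Quotient.mk_add]
      map_smul' := fun c a => by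
        rw [RingHom.id_apply, Algebra.smul_def, map_mul, ← IsScalarTower.algebraMap_apply, ← Algebra.smul_def,
          ← smul_tmul', Submodule.Quotient.mk_smul] }
  have h0 : ∀ m, p'.restrictScalars A ≤ LinearMap.ker (ψ₀ m) := fun m a ha => (Submodule.Quotient.mk_eq_zero _).2 (by
    have h := Submodule.smul_mem_smul (Ideal.mem_map_of_mem (algebraMap A' B') ha)
      (Submodule.mem_top (x := (1 : B') ⊗ₜ[B] m))
    rwa [smul_tmul', smul_eq_mul, mul_one] at h)
  let ψ : E →ₗ[B] (A' ⧸ p') →ₗ[A] (B' ⊗[B] E) ⧸ P :=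
    { toFun := fun m => Submodule.liftQ (p'.restrictScalars A) (ψ₀ m) (h0 m)
      map_add' := fun m n => Submodule.linearMap_qext _ (LinearMap.ext fun a => by
        change Submodule.Quotient.mk (algebraMap A' B' a ⊗ₜ[B] (m + n)) = _
        rw [tmul_add]; rfl)
      map_smul' := fun b m => Submodule.linearMap_qext _ (LinearMap.ext fun a => by
        change Submodule.Quotient.mk (algebraMap A' B' a ⊗ₜ[B] (b • m)) = _
        rw [← smul_tmul, ← smul_tmul']; rfl) }
  exact ⟨AlgebraTensorModule.lift ψ, fun a m => rfl⟩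

omit [IsNoetherianRing B] in
/-- The fibre of a base change is the fibre tensored with the new residue ring. -/
theorem exists_equiv_fib (E : Type u) [AddCommGroup E] [Module B E] [Module A E] [IsScalarTower A B E]
    (p' : Ideal A') (p : Ideal A) (hp : p ≤ p'.comap (algebraMap A A')) :
    Nonempty (((E ⧸ p.map (algebraMap A B) • (⊤ : Submodule B E)) ⊗[A] (A' ⧸ p')) ≃ₗ[B]
      ((B' ⊗[B] E) ⧸ p'.map (algebraMap A' B') • (⊤ : Submodule B' (B' ⊗[B] E)))) := by
  haveI : Algebra.IsPushout A A' B B' := Algebra.IsPushout.symm inferInstance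
  obtain ⟨Ψ, hΨ⟩ := exists_map (A := A) (B := B) (B' := B') E p'
  obtain ⟨Φ, hΦ⟩ := exists_section (A := A) (B := B) (B' := B') E p'
  have hV : ∀ a ∈ p, ∀ v : A' ⧸ p', a • v = 0 := fun a ha v => by
    obtain ⟨v, rfl⟩ := Ideal.Quotient.mk_surjective v
    rw [← Ideal.Quotient.mkₐ_eq_mk A, ← map_smul, Ideal.Quotient.mkₐ_eq_mk, Ideal.Quotient.eq_zero_iff_mem, Algebra.smul_def]
    exact p'.mul_mem_right v (hp ha)
  have hsurj : Function.Surjective Ψ := fun z => by
    obtain ⟨z, rfl⟩ := Submodule.Quotient.mk_surjective _ z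
    obtain ⟨w, rfl⟩ := (Algebra.IsPushout.cancelBaseChange A A' B B' E).symm.surjective z
    induction w using TensorProduct.induction_on with
    | zero => exact ⟨0, by rw [map_zero, map_zero]; rfl⟩
    | tmul a m => exact ⟨m ⊗ₜ Ideal.Quotient.mk p' a, by rw [hΨ, Algebra.IsPushout.cancelBaseChange_symm_tmul]⟩
    | add v w hv hw =>
      obtain ⟨v', hv⟩ := hv
      obtain ⟨w', hw⟩ := hw
      exact ⟨v' + w', by rw [map_add, map_add, hv, hw]; rfl⟩
  have hinj : Function.LeftInverse Φ Ψ := fun z => by
    induction z using TensorProduct.induction_on with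
    | zero =>
      have h := (hΦ 0 0).2 0 0
      rw [add_zero] at h
      rw [map_zero]
      exact left_eq_add.1 h
    | tmul m a =>
      obtain ⟨a, rfl⟩ := Ideal.Quotient.mk_surjective a
      rw [hΨ]; exact (hΦ a m).1
    | add v w hv hw => rw [map_add, (hΦ 0 0).2, hv, hw]
  exact ⟨(LinearEquiv.ofBijective _ (rTensor_mkQ_bijective E p (A' ⧸ p') hV)).symm.trans
    (LinearEquiv.ofBijective Ψ ⟨hinj.injective, hsurj⟩)⟩

/-- Fibre depth two is stable under base change. -/
theorem two_le_fib_baseChange [IsNoetherianRing B'] (E : Type u) [AddCommGroup E] [Module B E] [Module A E]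
    [IsScalarTower A B E] [Module.Finite B E] (E' : Type u) [AddCommGroup E'] [Module B' E'] [Module.Finite B' E']
    (e' : B' ⊗[B] E ≃ₗ[B'] E') (Q : Ideal B') [Q.IsPrime]
    (h : 2 ≤ LocCoh.idealDepth ((Q.comap (algebraMap B B')).map (algebraMap B (EGA4.FibLocRing A B (Q.comap (algebraMap B B')))))
      (EGA4.FibLocMod A B (Q.comap (algebraMap B B')) E)) :
    2 ≤ LocCoh.idealDepth (Q.map (algebraMap B' (EGA4.FibLocRing A' B' Q))) (EGA4.FibLocMod A' B' Q E') := by
  letI : Module B E' := Module.compHom E' (algebraMap B B')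
  haveI : IsScalarTower B B' E' := IsScalarTower.of_algebraMap_smul fun _ _ => rfl
  obtain ⟨x, hx, y, hy, hreg⟩ := exists_regAt (A := A) E _ h (A' ⧸ Q.comap (algebraMap A' B'))
  obtain ⟨e⟩ := exists_equiv_fib (A := A) (B := B) (B' := B') E (Q.comap (algebraMap A' B'))
    ((Q.comap (algebraMap B B')).comap (algebraMap A B)) (fun a ha => by
      rw [Ideal.mem_comap, Ideal.mem_comap, ← IsScalarTower.algebraMap_apply A A' B', IsScalarTower.algebraMap_apply A B B']
      exact ha)
  let ee := (Submodule.Quotient.equiv ((Q.comap (algebraMap A' B')).map (algebraMap A' B') • (⊤ : Submodule B' (B' ⊗[B] E)))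
    ((Q.comap (algebraMap A' B')).map (algebraMap A' B') • (⊤ : Submodule B' E')) e'
    (by rw [Submodule.map_smul'', Submodule.map_top, LinearEquiv.range])).restrictScalars B
  obtain ⟨h1, h2⟩ := regular_localized_of_regAt Q (regAt_of_equiv (e.trans ee) hreg)
  rw [← depth_fibLoc]
  have mem : ∀ z, z ∈ Q.comap (algebraMap B B') → algebraMap B' (Localization.AtPrime Q) (algebraMap B B' z) ∈
      IsLocalRing.maximalIdeal (Localization.AtPrime Q) := fun z hz =>
    (IsLocalization.AtPrime.to_map_mem_maximal_iff (Localization.AtPrime Q) Q _).2 hz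
  refine two_le_of_regular (mem x hx) (mem y hy) (fun a b hab => h1 ?_) (fun m n hmn => ?_)
  · change algebraMap B B' x • a = algebraMap B B' x • b
    rwa [← algebraMap_smul (Localization.AtPrime Q) (algebraMap B B' x) a,
      ← algebraMap_smul (Localization.AtPrime Q) (algebraMap B B' x) b]
  · replace hmn : algebraMap B B' y • m = algebraMap B B' x • n := by
      rwa [← algebraMap_smul (Localization.AtPrime Q) (algebraMap B B' y) m,
        ← algebraMap_smul (Localization.AtPrime Q) (algebraMap B B' x) n]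
    obtain ⟨c, hc⟩ := h2 m n hmn
    exact ⟨c, by rwa [algebraMap_smul]⟩

end Pushout

end Groth.Agent.QGorD
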