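import Groth.Agent.QGorD.Basic
import Mathlib

/-!
A reflexive module, free off `V(J)`, begins a four term exact sequence with free middle terms and
last term free off `V(J)`.
-/

universe u

namespace Groth.Agent.QGorD

variable {B : Type u} [CommRing B]

theorem exists_retract_of_free {F : Type u} [AddCommGroup F] [Module B F] [Module.Finite B F]
    [Module.FinitePresentation B F] (S : Submonoid B)
    (hF : Module.Free (Localization S) (LocalizedModule S F)) :
    ∃ (r : ℕ) (a : F →ₗ[B] (Fin r → B)) (b : (Fin r → B) →ₗ[B] F) (s : B), s ∈ S ∧ ∀ x, b (a x) = s • x := by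
  haveI := hF
  haveI : Module.Finite (Localization S) (LocalizedModule S F) :=
    Module.Finite.of_isLocalizedModule S (LocalizedModule.mkLinearMap S F)
  rcases subsingleton_or_nontrivial (Localization S) with hs | hs
  · haveI := hs
    have h0 : (0 : B) ∈ S := by
      obtain ⟨c, hc⟩ := (IsLocalization.map_eq_zero_iff S (Localization S) (1 : B)).1 (Subsingleton.elim _ _)
      rw [mul_one] at hc
      exact hc ▸ c.2
    exact ⟨0, 0, 0, 0, h0, fun x => by simp⟩
  let r := Module.finrank (Localization S) (LocalizedModule S F)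
  let bas : Module.Basis (Fin r) (Localization S) (LocalizedModule S F) := Module.finBasis _ _
  let mF := LocalizedModule.mkLinearMap S F
  let mP : (Fin r → B) →ₗ[B] (Fin r → Localization S) := LinearMap.compLeft (Algebra.linearMap B (Localization S)) (Fin r)
  haveI : IsLocalizedModule S mP := inferInstanceAs (IsLocalizedModule S
    (LinearMap.pi fun i => Algebra.linearMap B (Localization S) ∘ₗ LinearMap.proj i))
  let e : LocalizedModule S F ≃ₗ[B] (Fin r → Localization S) := bas.equivFun.restrictScalars B
  obtain ⟨a, s₁, ha⟩ := Module.FinitePresentation.exists_lift_of_isLocalizedModule S mP (e.toLinearMap.comp mF)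
  obtain ⟨b, s₂, hb⟩ := Module.FinitePresentation.exists_lift_of_isLocalizedModule S mF (e.symm.toLinearMap.comp mP)
  have h : mF.comp (b.comp a) = mF.comp (((s₂ * s₁ : S) : B) • LinearMap.id) := by
    refine LinearMap.ext fun x => ?_
    have h1 := LinearMap.congr_fun hb (a x)
    have h2 := LinearMap.congr_fun ha x
    simp only [LinearMap.comp_apply, LinearMap.smul_apply, Submonoid.smul_def, LinearEquiv.coe_coe] at h1 h2 ⊢
    rw [h1, h2, map_smul, e.symm_apply_apply, smul_smul, LinearMap.id_apply, map_smul, Submonoid.coe_mul]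
  obtain ⟨t, ht⟩ := Module.Finite.exists_smul_of_comp_eq_of_isLocalizedModule S mF _ _ h
  refine ⟨r, a, (t : B) • b, (t * (s₂ * s₁) : S), (t * (s₂ * s₁)).2, fun x => ?_⟩
  have := LinearMap.congr_fun ht x
  simp only [LinearMap.smul_apply, Submonoid.smul_def, LinearMap.comp_apply, LinearMap.id_apply] at this
  rw [LinearMap.smul_apply, this, smul_smul]
  simp only [Submonoid.coe_mul]

theorem free_localized_of_retract {G : Type u} [AddCommGroup G] [Module B G] [Module.Finite B G]
    [IsNoetherianRing B] (q : Ideal B) [q.IsPrime] {n : ℕ} (γ : G →ₗ[B] (Fin n → B))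
    (π : (Fin n → B) →ₗ[B] G) {s : B} (hs : s ∉ q) (h : ∀ x, π (γ x) = s • x) :
    Module.Free (Localization.AtPrime q) (LocalizedModule q.primeCompl G) := by
  haveI : Module.Finite (Localization.AtPrime q) (LocalizedModule q.primeCompl G) :=
    Module.Finite.of_isLocalizedModule q.primeCompl (LocalizedModule.mkLinearMap q.primeCompl G)
  haveI : Module.Free (Localization.AtPrime q) (LocalizedModule q.primeCompl (Fin n → B)) :=
    Module.free_of_isLocalizedModule q.primeCompl (LocalizedModule.mkLinearMap q.primeCompl (Fin n → B))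
  obtain ⟨c, hc⟩ := (IsLocalization.map_units (Localization.AtPrime q) (⟨s, hs⟩ : q.primeCompl)).exists_left_inv
  let γq := LocalizedModule.map q.primeCompl γ
  let πq := LocalizedModule.map q.primeCompl π
  haveI : Module.Projective (Localization.AtPrime q) (LocalizedModule q.primeCompl G) := by
    refine Module.Projective.of_split (c • γq) πq (LinearMap.ext fun z => ?_)
    induction z using LocalizedModule.induction_on with
    | h x t =>
      rw [LinearMap.comp_apply, LinearMap.smul_apply, map_smul, LocalizedModule.map_mk, LocalizedModule.map_mk, h,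
        ← LocalizedModule.smul'_mk, ← algebraMap_smul (Localization.AtPrime q) s, smul_smul, hc, one_smul,
        LinearMap.id_apply]
  haveI : Module.FinitePresentation (Localization.AtPrime q) (LocalizedModule q.primeCompl G) :=
    Module.finitePresentation_of_projective _ _
  exact Module.free_of_flat_of_isLocalRing

theorem exists_fourTerm [IsNoetherianRing B] (F : Type u) [AddCommGroup F] [Module B F] [Module.Finite B F]
    [Module.IsReflexive B F] :
    ∃ (n m : ℕ) (g : F →ₗ[B] (Fin n → B)) (h : (Fin n → B) →ₗ[B] (Fin m → B)),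
      Function.Injective g ∧ Function.Exact g h ∧
      ∀ q : PrimeSpectrum B, Module.Free (Localization.AtPrime q.asIdeal) (LocalizedModule q.asIdeal.primeCompl F) →
        Module.Free (Localization.AtPrime q.asIdeal)
          (LocalizedModule q.asIdeal.primeCompl ((Fin m → B) ⧸ LinearMap.range h)) := by
  haveI : Module.Finite B (Module.Dual B F) := by
    obtain ⟨n, f, hf⟩ := Module.Finite.exists_fin' B F
    exact Module.Finite.of_injective f.dualMap (LinearMap.dualMap_injective_of_surjective hf)
  haveI : Module.FinitePresentation B F := Module.finitePresentation_of_finite B F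
  obtain ⟨n, f, hf⟩ := Module.Finite.exists_fin' B (Module.Dual B F)
  haveI : Module.Finite B (LinearMap.ker f) := Module.IsNoetherian.finite B _
  obtain ⟨m, g0, hg0⟩ := Module.Finite.exists_fin' B (LinearMap.ker f)
  let g : (Fin m → B) →ₗ[B] (Fin n → B) := (LinearMap.ker f).subtype.comp g0
  let en : Module.Dual B (Fin n → B) ≃ₗ[B] (Fin n → B) := (Pi.basisFun B (Fin n)).toDualEquiv.symm
  let em : Module.Dual B (Fin m → B) ≃ₗ[B] (Fin m → B) := (Pi.basisFun B (Fin m)).toDualEquiv.symm
  have hfg : ∀ v, f (g v) = 0 := fun v => (g0 v).2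
  refine ⟨n, m, en.toLinearMap ∘ₗ f.dualMap ∘ₗ (Module.evalEquiv B F).toLinearMap,
    em.toLinearMap ∘ₗ g.dualMap ∘ₗ en.symm.toLinearMap,
    en.injective.comp ((LinearMap.dualMap_injective_of_surjective hf).comp (Module.evalEquiv B F).injective), ?_, ?_⟩
  · intro x
    constructor
    · intro hx
      simp only [LinearMap.comp_apply, LinearEquiv.coe_coe, LinearEquiv.map_eq_zero_iff] at hx
      have hk : LinearMap.ker f ≤ LinearMap.ker (en.symm x) := fun v hv => by
        obtain ⟨w, hw⟩ := hg0 ⟨v, hv⟩
        have := LinearMap.congr_fun hx w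
        simpa [g, hw] using this
      refine ⟨(Module.evalEquiv B F).symm ((Submodule.liftQ _ (en.symm x) hk) ∘ₗ (f.quotKerEquivOfSurjective hf).symm.toLinearMap), ?_⟩
      simp only [LinearMap.comp_apply, LinearEquiv.coe_coe, LinearEquiv.apply_symm_apply]
      rw [← en.symm.injective.eq_iff, en.symm_apply_apply]
      refine LinearMap.ext fun v => ?_
      simp only [LinearMap.dualMap_apply, LinearMap.comp_apply, LinearEquiv.coe_coe]
      rw [show (f.quotKerEquivOfSurjective hf).symm (f v) = Submodule.Quotient.mk v from
        (f.quotKerEquivOfSurjective hf).injective (by simp [LinearEquiv.apply_symm_apply])]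
      rfl
    · rintro ⟨y, rfl⟩
      simp only [LinearMap.comp_apply, LinearEquiv.coe_coe, LinearEquiv.symm_apply_apply, LinearEquiv.map_eq_zero_iff]
      exact LinearMap.ext fun w => by simp [LinearMap.dualMap_apply, hfg]
  · intro q hq
    obtain ⟨r, a, b, s, hs, hab⟩ := exists_retract_of_free q.asIdeal.primeCompl hq
    obtain ⟨L, hL⟩ := Module.projective_lifting_property f a.dualMap hf
    let σ : Module.Dual B F →ₗ[B] (Fin n → B) := L.comp b.dualMap
    have hσ : ∀ ψ, f (σ ψ) = s • ψ := fun ψ => by
      show f (L (b.dualMap ψ)) = s • ψ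
      rw [show f (L (b.dualMap ψ)) = a.dualMap (b.dualMap ψ) from LinearMap.congr_fun hL (b.dualMap ψ)]
      refine LinearMap.ext fun x => ?_
      simp [LinearMap.dualMap_apply, hab]
    obtain ⟨w, hw⟩ := Module.projective_lifting_property g0
      ((s • LinearMap.id - σ.comp f).codRestrict (LinearMap.ker f) fun v => by
        simp [LinearMap.mem_ker, hσ]) hg0
    have hgwg : ∀ v, g (w (g v)) = s • g v := fun v => by
      have := congrArg Subtype.val (LinearMap.congr_fun hw (g v))
      show ((g0 (w (g v)) : Fin n → B)) = _
      rw [LinearMap.comp_apply] at this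
      rw [this]
      simp [hfg]
    let h := em.toLinearMap ∘ₗ g.dualMap ∘ₗ en.symm.toLinearMap
    let w' : (Fin m → B) →ₗ[B] (Fin n → B) := en.toLinearMap ∘ₗ w.dualMap ∘ₗ em.symm.toLinearMap
    have hh : ∀ x, h (w' (h x)) = s • h x := fun x => by
      simp only [h, w', LinearMap.comp_apply, LinearEquiv.coe_coe, LinearEquiv.symm_apply_apply]
      rw [← map_smul]
      congr 1
      refine LinearMap.ext fun v => ?_
      simp [LinearMap.dualMap_apply, hgwg]
    let P : (Fin m → B) →ₗ[B] (Fin m → B) := s • LinearMap.id - h.comp w'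
    refine free_localized_of_retract q.asIdeal ((LinearMap.range h).liftQ P ?_) (LinearMap.range h).mkQ hs fun x => ?_
    · rintro _ ⟨x, rfl⟩
      simp [P, hh]
    · obtain ⟨x, rfl⟩ := Submodule.Quotient.mk_surjective _ x
      rw [Submodule.liftQ_apply, Submodule.mkQ_apply, ← Submodule.Quotient.mk_smul, Submodule.Quotient.eq]
      simp only [P, LinearMap.sub_apply, LinearMap.smul_apply, LinearMap.id_apply, LinearMap.comp_apply,
        sub_sub_cancel_left]
      exact neg_mem ⟨_, rfl⟩

end Groth.Agent.QGorD
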