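import Groth.Agent.QGorD.BaseFib
import Groth.Agent.QGorD.FreePres

/-!
Base change of modules free off `V(J)`, and their reflexive hulls.
-/

universe u

open TensorProduct

namespace Groth.Agent.QGorD

variable {A B : Type u} [CommRing A] [CommRing B] [Algebra A B] [IsNoetherianRing B]
  {A' B' : Type u} [CommRing A'] [CommRing B'] [Algebra A A'] [Algebra B B'] [Algebra A' B']
  [Algebra A B'] [IsScalarTower A B B'] [IsScalarTower A A' B'] [Algebra.IsPushout A B A' B']

omit [Algebra A B] [Algebra A A'] [Algebra A' B'] [Algebra A B'] [IsScalarTower A B B'] [IsScalarTower A A' B']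
  [Algebra.IsPushout A B A' B'] in
theorem free_baseChange_off [IsNoetherianRing B'] (J : Ideal B) {F : Type u} [AddCommGroup F] [Module B F] [Module.Finite B F]
    (hFU : ∀ q : PrimeSpectrum B, ¬ J ≤ q.asIdeal →
      Module.Free (Localization.AtPrime q.asIdeal) (LocalizedModule q.asIdeal.primeCompl F))
    (q' : PrimeSpectrum B') (hq : ¬ J.map (algebraMap B B') ≤ q'.asIdeal) :
    Module.Free (Localization.AtPrime q'.asIdeal) (LocalizedModule q'.asIdeal.primeCompl (B' ⊗[B] F)) := by
  haveI : Module.FinitePresentation B F := Module.finitePresentation_of_finite B F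
  obtain ⟨r, a, b, s, hs, h⟩ := exists_retract_of_free (q'.asIdeal.comap (algebraMap B B')).primeCompl
    (hFU ⟨q'.asIdeal.comap (algebraMap B B'), inferInstance⟩ fun hJ => hq (Ideal.map_le_iff_le_comap.2 hJ))
  let e := TensorProduct.piScalarRight B B' B' (Fin r)
  refine free_localized_of_retract q'.asIdeal (e.toLinearMap.comp (a.baseChange B'))
    ((b.baseChange B').comp e.symm.toLinearMap) (s := algebraMap B B' s) hs fun x => ?_
  simp only [LinearMap.comp_apply, LinearEquiv.coe_coe, LinearEquiv.symm_apply_apply]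
  induction x using TensorProduct.induction_on with
  | zero => simp
  | tmul c m => rw [LinearMap.baseChange_tmul, LinearMap.baseChange_tmul, h, tmul_smul, algebraMap_smul]
  | add p q hp hq => rw [map_add, map_add, hp, hq, smul_add]

variable [IsNoetherianRing A] [IsNoetherianRing A'] [IsNoetherianRing B']

variable (A') in
include A' in
theorem two_le_idealDepth_baseChange [Module.Flat A B] (J : Ideal B)
    (hZ : ∀ q : PrimeSpectrum B, J ≤ q.asIdeal →
      2 ≤ LocCoh.idealDepth (q.asIdeal.map (algebraMap B (EGA4.FibLocRing A B q.asIdeal))) (EGA4.FibLocRing A B q.asIdeal)) :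
    2 ≤ LocCoh.idealDepth (J.map (algebraMap B B')) B' := by
  haveI : Algebra.IsPushout A A' B B' := Algebra.IsPushout.symm inferInstance
  haveI : Module.Flat A' B' := Module.Flat.of_linearEquiv (Algebra.IsPushout.equiv A A' B B').toLinearEquiv.symm
  refine le_idealDepth_of_fibres (A := A') B' _ 2 fun q hq => ?_
  refine two_le_fib_baseChange (A := A) (B := B) (A' := A') (B' := B') B B' (TensorProduct.AlgebraTensorModule.rid B B' B') q.asIdeal ?_
  rw [fibLocRing_depth_eq]
  exact hZ ⟨q.asIdeal.comap (algebraMap B B'), inferInstance⟩ (Ideal.map_le_iff_le_comap.1 hq)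

theorem isReflexive_of_flat (E : Type u) [AddCommGroup E] [Module B E] [Module A E] [IsScalarTower A B E]
    [Module.Finite B E] [Module.Flat A E] (J : Ideal B) (hB : 1 ≤ LocCoh.idealDepth J B)
    (hFU : ∀ q : PrimeSpectrum B, ¬ J ≤ q.asIdeal →
      Module.Free (Localization.AtPrime q.asIdeal) (LocalizedModule q.asIdeal.primeCompl E))
    (hfib : ∀ q : PrimeSpectrum B, J ≤ q.asIdeal →
      2 ≤ LocCoh.idealDepth (q.asIdeal.map (algebraMap B (EGA4.FibLocRing A B q.asIdeal))) (EGA4.FibLocMod A B q.asIdeal E)) :
    Module.IsReflexive B E :=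
  isReflexive_of_two_le hB E (fun q hq => by
    haveI := hFU q hq
    haveI : Module.Finite (Localization.AtPrime q.asIdeal) (LocalizedModule q.asIdeal.primeCompl E) :=
      Module.Finite.of_isLocalizedModule q.asIdeal.primeCompl (LocalizedModule.mkLinearMap q.asIdeal.primeCompl E)
    infer_instance) (le_idealDepth_of_fibres (A := A) E J 2 hfib)

omit [IsNoetherianRing A] [IsNoetherianRing A'] [IsNoetherianRing B'] [IsNoetherianRing B] in
theorem flat_baseChange (E : Type u) [AddCommGroup E] [Module B E] [Module A E] [IsScalarTower A B E] [Module.Flat A E] :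
    Module.Flat A' (B' ⊗[B] E) := by
  haveI : Algebra.IsPushout A A' B B' := Algebra.IsPushout.symm inferInstance
  exact Module.Flat.of_linearEquiv (Algebra.IsPushout.cancelBaseChange A A' B B' E)

section Dual

variable {R : Type u} [CommRing R] [IsNoetherianRing R] {I : Ideal R}

theorem two_le_idealDepth_dual (hR : 2 ≤ LocCoh.idealDepth I R) (N : Type u) [AddCommGroup N] [Module R N]
    [Module.Finite R N] : 2 ≤ LocCoh.idealDepth I (Module.Dual R N) := by
  haveI : Module.Finite R (Module.Dual R N) := by
    obtain ⟨n, f, hf⟩ := Module.Finite.exists_fin' R N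
    exact Module.Finite.of_injective f.dualMap (LinearMap.dualMap_injective_of_surjective hf)
  haveI : Module.Finite R (Module.Dual R (Module.Dual R (Module.Dual R N))) := by
    haveI : Module.Finite R (Module.Dual R (Module.Dual R N)) := by
      obtain ⟨n, f, hf⟩ := Module.Finite.exists_fin' R (Module.Dual R N)
      exact Module.Finite.of_injective f.dualMap (LinearMap.dualMap_injective_of_surjective hf)
    obtain ⟨n, f, hf⟩ := Module.Finite.exists_fin' R (Module.Dual R (Module.Dual R N))
    exact Module.Finite.of_injective f.dualMap (LinearMap.dualMap_injective_of_surjective hf)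
  have hT := le_idealDepth_bidual (Module.Dual R N) 2 le_rfl hR
  let i := Module.Dual.eval R (Module.Dual R N)
  let r := (Module.Dual.eval R N).dualMap
  have hri : ∀ f, r (i f) = f := fun f => LinearMap.ext fun x => rfl
  refine two_le_of_kernel i (Function.LeftInverse.injective (g := r) hri) (LinearMap.id - i.comp r) (fun z => ?_) hT
    (le_trans (by norm_num) hT)
  simp only [LinearMap.sub_apply, LinearMap.id_apply, LinearMap.comp_apply, sub_eq_zero]
  exact ⟨fun h => ⟨r z, h.symm⟩, by rintro ⟨f, rfl⟩; rw [hri]⟩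

theorem bijective_dualMap_of_iso_off (hR : 2 ≤ LocCoh.idealDepth I R) {N N' : Type u} [AddCommGroup N] [Module R N]
    [Module.Finite R N] [AddCommGroup N'] [Module R N'] [Module.Finite R N'] (φ : N →ₗ[R] N')
    (h : ∀ q : PrimeSpectrum R, ¬ I ≤ q.asIdeal → ∃ σ : N' →ₗ[R] N, ∃ s ∉ q.asIdeal,
      (∀ x, σ (φ x) = s • x) ∧ ∀ y, φ (σ y) = s • y) : Function.Bijective φ.dualMap := by
  haveI : Module.Finite R (Module.Dual R N') := by
    obtain ⟨n, f, hf⟩ := Module.Finite.exists_fin' R N'
    exact Module.Finite.of_injective f.dualMap (LinearMap.dualMap_injective_of_surjective hf)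
  obtain ⟨x, hx, hr⟩ := exists_regular_of_one_le I R (le_trans (by norm_num) hR)
  have hrD : ∀ {X : Type u} [AddCommGroup X] [Module R X], IsSMulRegular (Module.Dual R X) x := @fun X _ _ a b hab =>
    LinearMap.ext fun v => hr (LinearMap.congr_fun hab v)
  have hinj : Function.Injective φ.dualMap := (injective_iff_map_eq_zero _).2 fun g hg => LinearMap.ext fun v => by
    rw [LinearMap.zero_apply]
    obtain ⟨k, hk⟩ := exists_pow_smul_mem (I := I) (⊥ : Submodule R R) (g v) fun q hq => by
      obtain ⟨σ, s, hs, -, h2⟩ := h q hq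
      refine ⟨s, hs, (Submodule.mem_bot R).2 ?_⟩
      rw [← map_smul, ← h2]
      exact LinearMap.congr_fun hg (σ v)
    exact eq_zero_of_regular_of_torsion hr ⟨k, (Submodule.mem_bot R).1 (hk _ (Ideal.pow_mem_pow hx k))⟩
  refine ⟨hinj, fun g => mem_range_of_torsion φ.dualMap hinj (two_le_idealDepth_dual hR N') hx hrD hrD fun a ha => ?_⟩
  obtain ⟨k, hk⟩ := exists_pow_smul_mem (I := I) (LinearMap.range φ.dualMap) g fun q hq => by
    obtain ⟨σ, s, hs, h1, -⟩ := h q hq
    refine ⟨s, hs, g.comp σ, LinearMap.ext fun v => ?_⟩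
    rw [LinearMap.dualMap_apply, LinearMap.comp_apply, h1, map_smul, LinearMap.smul_apply]
  exact ⟨k, hk _ (Ideal.pow_mem_pow ha k)⟩

/-- The evaluation into the bidual has an inverse up to `s` where the module is free. -/
theorem exists_almost_inverse_eval {F : Type u} [AddCommGroup F] [Module R F] [Module.Finite R F] (q : Ideal R) [q.IsPrime]
    (hF : Module.Free (Localization.AtPrime q) (LocalizedModule q.primeCompl F)) :
    ∃ σ : Module.Dual R (Module.Dual R F) →ₗ[R] F, ∃ s ∉ q,
      (∀ x, σ (Module.Dual.eval R F x) = s • x) ∧ ∀ y, Module.Dual.eval R F (σ y) = s • y := by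
  haveI : Module.FinitePresentation R F := Module.finitePresentation_of_finite R F
  obtain ⟨r, a, b, s, hs, h⟩ := exists_retract_of_free q.primeCompl hF
  let ev := Module.evalEquiv R (Fin r → R)
  have hev : ∀ (g : F →ₗ[R] (Fin r → R)) x, g.dualMap.dualMap (Module.Dual.eval R F x) = ev (g x) := fun g x => rfl
  have hev' : ∀ (g : (Fin r → R) →ₗ[R] F) v, g.dualMap.dualMap (ev v) = Module.Dual.eval R F (g v) := fun g v => rfl
  refine ⟨b.comp (ev.symm.toLinearMap.comp a.dualMap.dualMap), s, hs, fun x => ?_, fun y => ?_⟩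
  · simp only [LinearMap.comp_apply, LinearEquiv.coe_coe, hev, ev.symm_apply_apply, h]
  · simp only [LinearMap.comp_apply, LinearEquiv.coe_coe, ← hev', ev.apply_symm_apply]
    refine LinearMap.ext fun f => ?_
    rw [LinearMap.dualMap_apply, LinearMap.dualMap_apply, show a.dualMap (b.dualMap f) = s • f from
      LinearMap.ext fun x => by rw [LinearMap.dualMap_apply, LinearMap.dualMap_apply, h, map_smul, LinearMap.smul_apply],
      map_smul, LinearMap.smul_apply]

end Dual

end Groth.Agent.QGorD
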