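import Groth.Agent.QGorD.Skn

/-!
The bidual of a finite module over an `(S_k)` ring is `(S_k)` for `k ≤ 2`.
-/

set_option autoImplicit false
set_option linter.style.haveILetI false
universe u

open Pointwise

namespace Groth.Agent.QGorD

variable {A : Type u} [CommRing A] [IsNoetherianRing A]

theorem hasSk_bidual {k : ℕ} (hk : k ≤ 2) (hA : LocCoh.HasSk k A A) (G : Type u) [AddCommGroup G]
    [Module A G] [Module.Finite A G] : LocCoh.HasSk k A (Module.Dual A (Module.Dual A G)) := by
  obtain ⟨m, n, i, u, hi, hu⟩ := exists_dual_presentation (A := A) G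
  haveI : Module.Finite A (Module.Dual A (Module.Dual A G)) := Module.Finite.of_injective i hi
  intro p hp
  refine min_le_of_forall hk fun j hj hj1 hjd => ?_
  have hR := le_depth_of_le_min (min_le_depth_localization hA p) hj
    (hjd.trans (Module.supportDim_le_ringKrullDim _ _))
  have hpi : ∀ l : ℕ, ∀ c : ℕ, c ≤ j → (c : ℕ∞) ≤
      LocCoh.depth (Localization.AtPrime p) (LocalizedModule p.primeCompl (Fin l → A)) := by
    intro l c hc
    let e : LocalizedModule p.primeCompl (Fin l → A) ≃ₗ[Localization.AtPrime p] (Fin l → Localization.AtPrime p) :=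
      (IsLocalizedModule.linearEquiv p.primeCompl (LocalizedModule.mkLinearMap p.primeCompl (Fin l → A))
        (LinearMap.pi fun i => (Algebra.linearMap A (Localization.AtPrime p)).comp (LinearMap.proj i))).extendScalarsOfIsLocalization
          p.primeCompl (Localization.AtPrime p)
    rw [LocCoh.depth, LocH.idealDepth_congr e]
    exact le_idealDepth_pi l c (by omega) (le_trans (by exact_mod_cast hc) hR)
  have hinj := LocalizedModule.map_injective p.primeCompl i hi
  have hex : Function.Exact (LocalizedModule.map p.primeCompl i) (LocalizedModule.map p.primeCompl u) :=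
    LocalizedModule.map_exact p.primeCompl i u hu
  match j, hj1, (hj.trans hk) with
  | 1, _, _ => exact_mod_cast one_le_of_injective _ hinj (by exact_mod_cast hpi m 1 le_rfl)
  | 2, _, _ =>
    exact_mod_cast two_le_of_kernel _ hinj _ hex (by exact_mod_cast hpi m 2 le_rfl)
      (by exact_mod_cast hpi n 1 (by omega))

end Groth.Agent.QGorD
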