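import Groth.Agent.QGorD.FibDepth
import Groth.Agent.QGorD.FourTerm
import Groth.Agent.LocH.AdjDepthChange
import Mathlib.Algebra.Module.LocalizedModule.Submodule
import Mathlib.RingTheory.Support

/-!
Depth of fibres along an ideal of a local ring against the depth of the fibre stalks.
-/

universe u

namespace Groth.Agent.QGorD

variable {A B : Type u} [CommRing A] [CommRing B] [Algebra A B]

/-- `E/pE → E_S/pE_S` is a localization. -/
theorem exists_fibQ (E : Type u) [AddCommGroup E] [Module B E] (S : Submonoid B) (p : Ideal A) :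
    ∃ f : (E ⧸ p.map (algebraMap A B) • (⊤ : Submodule B E)) →ₗ[B]
        (LocalizedModule S E ⧸ p.map (algebraMap A (Localization S)) • (⊤ : Submodule (Localization S) (LocalizedModule S E))),
      IsLocalizedModule S f := by
  let g := LocalizedModule.mkLinearMap S E
  let P : Submodule B E := p.map (algebraMap A B) • ⊤
  have hP : P.localized' (Localization S) S g = p.map (algebraMap A (Localization S)) • ⊤ := by
    simp only [P, Submodule.localized'_smul, Submodule.localized'_top, Ideal.localized'_eq_map, Ideal.map_map,
      ← IsScalarTower.algebraMap_eq]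
  exact ⟨((Submodule.quotEquivOfEq _ _ hP).restrictScalars B).toLinearMap.comp (P.toLocalizedQuotient' (Localization S) S g),
    IsLocalizedModule.of_linearEquiv S (P.toLocalizedQuotient' (Localization S) S g)
      ((Submodule.quotEquivOfEq _ _ hP).restrictScalars B)⟩

variable [IsNoetherianRing B]

theorem depth_fibLoc (E : Type u) [AddCommGroup E] [Module B E] [Module.Finite B E] (q : Ideal B) [q.IsPrime] :
    LocCoh.depth (Localization.AtPrime q)
        (LocalizedModule q.primeCompl (E ⧸ (q.comap (algebraMap A B)).map (algebraMap A B) • (⊤ : Submodule B E))) =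
      LocCoh.idealDepth (q.map (algebraMap B (EGA4.FibLocRing A B q))) (EGA4.FibLocMod A B q E) := by
  obtain ⟨f, hf⟩ := exists_fibQ (A := A) E q.primeCompl (q.comap (algebraMap A B))
  haveI : Nontrivial (EGA4.FibLocRing A B q) := Ideal.Quotient.nontrivial_iff.2 fun h => by
    have hle : (q.comap (algebraMap A B)).map (algebraMap A (Localization.AtPrime q)) ≤
        IsLocalRing.maximalIdeal (Localization.AtPrime q) := by
      rw [IsScalarTower.algebraMap_eq A B (Localization.AtPrime q), ← Ideal.map_map,
        ← Localization.AtPrime.map_eq_maximalIdeal]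
      exact Ideal.map_mono Ideal.map_comap_le
    exact (IsLocalRing.maximalIdeal.isMaximal _).ne_top (top_le_iff.1 (h ▸ hle))
  haveI : IsLocalRing (EGA4.FibLocRing A B q) := IsLocalRing.of_surjective' _ Ideal.Quotient.mk_surjective
  haveI : IsScalarTower B (EGA4.FibLocRing A B q) (EGA4.FibLocMod A B q E) :=
    IsScalarTower.of_algebraMap_smul fun b (z : EGA4.FibLocMod A B q E) => by
      rw [IsScalarTower.algebraMap_apply B (Localization.AtPrime q) (EGA4.FibLocRing A B q),
        algebraMap_smul, algebraMap_smul]
  have hmax : q.map (algebraMap B (EGA4.FibLocRing A B q)) = IsLocalRing.maximalIdeal _ := by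
    rw [IsScalarTower.algebraMap_eq B (Localization.AtPrime q) (EGA4.FibLocRing A B q), ← Ideal.map_map,
      Localization.AtPrime.map_eq_maximalIdeal]
    exact LocH.map_maximalIdeal_of_surjective Ideal.Quotient.mk_surjective
  rw [hmax]
  refine (LocH.depth_eq_of_isLocalizedModule _ q (EGA4.FibLocRing A B q) (fun x => ?_) (fun a => ?_) _ f).symm
  · rw [IsScalarTower.algebraMap_apply B (Localization.AtPrime q) (EGA4.FibLocRing A B q)]
    exact (IsLocalization.map_units (Localization.AtPrime q) x).map _
  · obtain ⟨a, rfl⟩ := Ideal.Quotient.mk_surjective a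
    obtain ⟨⟨r, s⟩, h⟩ := IsLocalization.surj q.primeCompl a
    refine ⟨r, s, ?_⟩
    rw [IsScalarTower.algebraMap_apply B (Localization.AtPrime q) (EGA4.FibLocRing A B q),
      IsScalarTower.algebraMap_apply B (Localization.AtPrime q) (EGA4.FibLocRing A B q) r, ← h, map_mul]
    rfl

/-- Fibre depth at all primes over `V(J)` gives depth along `J` of a closed fibre of a localization. -/
theorem le_idealDepth_fib (E : Type u) [AddCommGroup E] [Module B E] [Module.Finite B E] (J q : Ideal B) [q.IsPrime] (k : ℕ)
    (h : ∀ r : PrimeSpectrum B, J ≤ r.asIdeal → r.asIdeal ≤ q →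
      (k : ℕ∞) ≤ LocCoh.idealDepth (r.asIdeal.map (algebraMap B (EGA4.FibLocRing A B r.asIdeal)))
        (EGA4.FibLocMod A B r.asIdeal E)) :
    (k : ℕ∞) ≤ LocCoh.idealDepth (J.map (algebraMap B (Localization.AtPrime q)))
      (LocalizedModule q.primeCompl E ⧸ (q.comap (algebraMap A B)).map (algebraMap A (Localization.AtPrime q)) •
        (⊤ : Submodule (Localization.AtPrime q) (LocalizedModule q.primeCompl E))) := by
  set p := q.comap (algebraMap A B) with hp
  obtain ⟨f, hf⟩ := exists_fibQ (A := A) E q.primeCompl p
  rw [LocH.le_idealDepth_iff_forall_prime]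
  intro Q hQ
  let g := LocalizedModule.mkLinearMap Q.asIdeal.primeCompl
    (LocalizedModule q.primeCompl E ⧸ p.map (algebraMap A (Localization.AtPrime q)) •
      (⊤ : Submodule (Localization.AtPrime q) (LocalizedModule q.primeCompl E)))
  by_cases hpQ : p.map (algebraMap A (Localization.AtPrime q)) ≤ Q.asIdeal
  swap
  · obtain ⟨a, ha, haQ⟩ := SetLike.not_le_iff_exists.1 hpQ
    haveI : Subsingleton (LocalizedModule Q.asIdeal.primeCompl
        (LocalizedModule q.primeCompl E ⧸ p.map (algebraMap A (Localization.AtPrime q)) •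
          (⊤ : Submodule (Localization.AtPrime q) (LocalizedModule q.primeCompl E)))) := by
      rw [LocalizedModule.subsingleton_iff]
      intro z
      obtain ⟨z, rfl⟩ := Submodule.Quotient.mk_surjective _ z
      exact ⟨a, haQ, (Submodule.Quotient.mk_eq_zero _).2 (Submodule.smul_mem_smul ha Submodule.mem_top)⟩
    refine le_top.trans_eq ?_
    rw [LocCoh.depth, LocCoh.idealDepth, if_pos (Subsingleton.elim _ _)]
  let r := Q.asIdeal.comap (algebraMap B (Localization.AtPrime q))
  have hrq : r ≤ q := fun x hx => by
    by_contra hxq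
    exact Q.2.ne_top (Q.asIdeal.eq_top_of_isUnit_mem hx (IsLocalization.map_units (Localization.AtPrime q) (⟨x, hxq⟩ : q.primeCompl)))
  have hJr : J ≤ r := Ideal.map_le_iff_le_comap.1 hQ
  have hpr : r.comap (algebraMap A B) = p := by
    refine le_antisymm (Ideal.comap_mono hrq) ?_
    rw [Ideal.comap_comap, ← IsScalarTower.algebraMap_eq]
    exact Ideal.map_le_iff_le_comap.1 hpQ
  refine (h ⟨r, inferInstance⟩ hJr hrq).trans_eq ?_
  rw [← depth_fibLoc E r, hpr]
  haveI : IsLocalization.AtPrime (Localization.AtPrime Q.asIdeal) r :=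
    IsLocalization.isLocalization_isLocalization_atPrime_isLocalization q.primeCompl _ Q.asIdeal
  let k' := (g.restrictScalars B).comp f
  haveI : IsLocalizedModule r.primeCompl k' := by
    rw [isLocalizedModule_iff_isBaseChange r.primeCompl (Localization.AtPrime Q.asIdeal)]
    refine IsBaseChange.comp (S := Localization.AtPrime q) ?_ ?_
    · rwa [← isLocalizedModule_iff_isBaseChange q.primeCompl]
    · rw [← isLocalizedModule_iff_isBaseChange Q.asIdeal.primeCompl]
      infer_instance
  exact (LocH.depth_eq_of_isLocalizedModule _ r (Localization.AtPrime Q.asIdeal)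
    (IsLocalization.map_units _) (fun a => by
      obtain ⟨⟨x, s⟩, hx⟩ := IsLocalization.surj r.primeCompl a
      exact ⟨x, s, hx⟩) _ k').symm

end Groth.Agent.QGorD
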