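import Groth.Agent.QGorD.Skn
import Groth.Agent.InjFibre.RegSeq
import Groth.Agent.InjFibre.Loc
import Groth.Prelude.Def_EGA4b
import Mathlib.RingTheory.Flat.Localization
import Mathlib.RingTheory.Regular.RegularSequence

/-!
Depth of a flat module from the depth of its fibres.
-/

universe u

open RingTheory.Sequence

namespace Groth.Agent.QGorD

variable {A B : Type u} [CommRing A] [CommRing B] [Algebra A B] [IsNoetherianRing B]

theorem le_depth_of_fibLoc [IsNoetherianRing A] (E : Type u) [AddCommGroup E] [Module B E] [Module A E]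
    [IsScalarTower A B E] [Module.Finite B E] [Module.Flat A E] (q : Ideal B) [q.IsPrime] (k : ℕ)
    (h : (k : ℕ∞) ≤ LocCoh.idealDepth (q.map (algebraMap B (EGA4.FibLocRing A B q))) (EGA4.FibLocMod A B q E)) :
    (k : ℕ∞) ≤ LocCoh.depth (Localization.AtPrime q) (LocalizedModule q.primeCompl E) := by
  haveI : Module.Flat A (LocalizedModule q.primeCompl E) :=
    InjFibre.flat_localized q.primeCompl (LocalizedModule.mkLinearMap q.primeCompl E)
  obtain ⟨rs, hlen, hrs, hmem⟩ := LocH.exists_isWeaklyRegular _ k _ ((LocH.le_idealDepth_iff _ _ k).1 h)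
  let mk := algebraMap (Localization.AtPrime q) (EGA4.FibLocRing A B q)
  have hlift : ∀ l : List (EGA4.FibLocRing A B q), (∀ r ∈ l, r ∈ q.map (algebraMap B (EGA4.FibLocRing A B q))) →
      ∃ ls : List (Localization.AtPrime q), ls.map mk = l ∧ ∀ r ∈ ls, r ∈ IsLocalRing.maximalIdeal (Localization.AtPrime q) := by
    intro l
    induction l with
    | nil => exact fun _ => ⟨[], rfl, by simp⟩
    | cons a l ih =>
      intro hl
      obtain ⟨ls, hls, hls'⟩ := ih fun r hr => hl r (List.mem_cons_of_mem _ hr)
      have ha := hl a List.mem_cons_self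
      rw [IsScalarTower.algebraMap_eq B (Localization.AtPrime q) (EGA4.FibLocRing A B q), ← Ideal.map_map,
        Localization.AtPrime.map_eq_maximalIdeal] at ha
      replace ha := (Ideal.mem_map_iff_of_surjective (algebraMap (Localization.AtPrime q) (EGA4.FibLocRing A B q))
        Ideal.Quotient.mk_surjective).1 ha
      obtain ⟨b, hb, rfl⟩ := ha
      refine ⟨b :: ls, by rw [List.map_cons, hls], fun r hr => ?_⟩
      rcases List.mem_cons.1 hr with rfl | hr
      exacts [hb, hls' r hr]
  obtain ⟨ls, rfl, hls⟩ := hlift rs hmem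
  rw [isWeaklyRegular_map_algebraMap_iff] at hrs
  let p := q.comap (algebraMap A B)
  let φ := Localization.localRingHom p q (algebraMap A B) rfl
  letI : Algebra (Localization.AtPrime p) (Localization.AtPrime q) := φ.toAlgebra
  letI : Module (Localization.AtPrime p) (LocalizedModule q.primeCompl E) := Module.compHom _ φ
  haveI : IsScalarTower (Localization.AtPrime p) (Localization.AtPrime q) (LocalizedModule q.primeCompl E) :=
    IsScalarTower.of_algebraMap_smul fun _ _ => rfl
  have hφ : φ.comp (algebraMap A (Localization.AtPrime p)) = algebraMap A (Localization.AtPrime q) := by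
    ext a
    rw [RingHom.comp_apply, Localization.localRingHom_to_map, ← IsScalarTower.algebraMap_apply]
  haveI : IsScalarTower A (Localization.AtPrime p) (LocalizedModule q.primeCompl E) :=
    IsScalarTower.of_algebraMap_smul fun a z => by
      change φ (algebraMap A _ a) • z = a • z
      rw [← RingHom.comp_apply, hφ, algebraMap_smul]
  haveI : Module.Flat (Localization.AtPrime p) (LocalizedModule q.primeCompl E) :=
    (Module.flat_iff_of_isLocalization (Localization.AtPrime p) p.primeCompl _).2 inferInstance
  haveI : IsLocalHom (algebraMap (Localization.AtPrime p) (Localization.AtPrime q)) :=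
    Localization.isLocalHom_localRingHom p q (algebraMap A B) rfl
  have heq : (IsLocalRing.maximalIdeal (Localization.AtPrime p)).map
      (algebraMap (Localization.AtPrime p) (Localization.AtPrime q)) =
        (q.comap (algebraMap A B)).map (algebraMap A (Localization.AtPrime q)) := by
    rw [← Localization.AtPrime.map_eq_maximalIdeal, Ideal.map_map]
    exact congrArg (fun ψ => Ideal.map ψ p) hφ
  obtain ⟨hreg, -⟩ := InjFibre.regSeq_noeth (A := Localization.AtPrime p) (B := Localization.AtPrime q)
    (LocalizedModule q.primeCompl E) ls (by rw [heq]; exact hrs)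
  rw [List.length_map] at hlen
  rw [LocCoh.depth, LocH.le_idealDepth_iff]
  exact fun i hi => LocH.subsingleton_of_isWeaklyRegular _ ls _ hreg hls i (by omega)

theorem le_idealDepth_of_fibres [IsNoetherianRing A] (E : Type u) [AddCommGroup E] [Module B E] [Module A E]
    [IsScalarTower A B E] [Module.Finite B E] [Module.Flat A E] (J : Ideal B) (k : ℕ)
    (h : ∀ q : PrimeSpectrum B, J ≤ q.asIdeal →
      (k : ℕ∞) ≤ LocCoh.idealDepth (q.asIdeal.map (algebraMap B (EGA4.FibLocRing A B q.asIdeal))) (EGA4.FibLocMod A B q.asIdeal E)) :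
    (k : ℕ∞) ≤ LocCoh.idealDepth J E := by
  rw [LocH.le_idealDepth_iff_forall_prime]
  exact fun q hq => le_depth_of_fibLoc E q.asIdeal k (h q hq)

theorem fibLocRing_depth_eq [IsNoetherianRing A] (q : Ideal B) [q.IsPrime] (I : Ideal (EGA4.FibLocRing A B q)) :
    LocCoh.idealDepth I (EGA4.FibLocMod A B q B) = LocCoh.idealDepth I (EGA4.FibLocRing A B q) := by
  let e : LocalizedModule q.primeCompl B ≃ₗ[Localization.AtPrime q] Localization.AtPrime q :=
    ((IsLocalizedModule.iso q.primeCompl (Algebra.linearMap B (Localization.AtPrime q))).extendScalarsOfIsLocalization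
      q.primeCompl (Localization.AtPrime q))
  let P := (q.comap (algebraMap A B)).map (algebraMap A (Localization.AtPrime q))
  let e' : EGA4.FibLocMod A B q B ≃ₗ[Localization.AtPrime q] EGA4.FibLocRing A B q :=
    Submodule.Quotient.equiv (P • ⊤) P e (by
      rw [Submodule.map_smul'', Submodule.map_top, LinearEquiv.range, Ideal.smul_top_eq_map,
        Algebra.algebraMap_self, Ideal.map_id]
      rfl)
  exact LocH.idealDepth_congr (e'.extendScalarsOfSurjective (S := EGA4.FibLocRing A B q) Ideal.Quotient.mk_surjective) I

end Groth.Agent.QGorD
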