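import Groth.Agent.QGorD.Lift
import Groth.Agent.LocalCrit.Criterion
import Groth.Agent.InjFibre.RegSeq
import Groth.Agent.FlatAdic.Basic
import Mathlib.RingTheory.Localization.BaseChange
import Mathlib.LinearAlgebra.DirectSum.Finsupp
import Mathlib.LinearAlgebra.FreeModule.Basic
import Groth.Prelude.Def_EGA4b
import Groth.Prelude.Def_FlatCA

/-!
Regular elements of the closed fibre act regularly on `M ⊗ V` for `V` of finite length, when `M` is
flat off `V(J)`; the resulting flatness criterion.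
-/

universe u

open TensorProduct

namespace Groth.Agent.QGorD

variable {A B : Type u} [CommRing A] [CommRing B] [IsLocalRing A] [Algebra A B]
  {M : Type u} [AddCommGroup M] [Module B M] [Module A M] [IsScalarTower A B M]

local notation "𝔪" => IsLocalRing.maximalIdeal A

theorem mk_one_surjective (I : Ideal A) :
    Function.Surjective ((AlgebraTensorModule.mk A B M (A ⧸ I)).flip 1) := fun z => by
  induction z using TensorProduct.induction_on with
  | zero => exact ⟨0, map_zero _⟩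
  | tmul m a =>
    obtain ⟨a, rfl⟩ := Ideal.Quotient.mk_surjective a
    refine ⟨a • m, ?_⟩
    show (a • m) ⊗ₜ[A] (1 : A ⧸ I) = m ⊗ₜ[A] Ideal.Quotient.mk I a
    rw [smul_tmul, Algebra.smul_def, mul_one, Ideal.Quotient.algebraMap_eq]
  | add a b ha hb =>
    obtain ⟨a, rfl⟩ := ha
    obtain ⟨b, rfl⟩ := hb
    exact ⟨a + b, map_add _ _ _⟩

theorem ker_mk_one (I : Ideal A) :
    LinearMap.ker ((AlgebraTensorModule.mk A B M (A ⧸ I)).flip 1) =
      I.map (algebraMap A B) • (⊤ : Submodule B M) := by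
  ext m
  rw [LinearMap.mem_ker, InjFibre.mem_smul_top_iff]
  show m ⊗ₜ[A] (1 : A ⧸ I) = 0 ↔ _
  rw [← LocalCrit.one_tmul_eq_zero_iff, ← (TensorProduct.comm A (A ⧸ I) M).map_eq_zero_iff,
    TensorProduct.comm_tmul]

/-- `M ⊗ A/I = M / I M`, linearly over `B`. -/
noncomputable def tensorQuot (I : Ideal A) :
    (M ⧸ (I.map (algebraMap A B) • (⊤ : Submodule B M))) ≃ₗ[B] M ⊗[A] (A ⧸ I) :=
  (Submodule.quotEquivOfEq _ _ (ker_mk_one I).symm).trans
    (LinearMap.quotKerEquivOfSurjective _ (mk_one_surjective I))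

theorem exists_finsupp_equiv (V : Type u) [AddCommGroup V] [Module A V] (hV : ∀ a ∈ 𝔪, ∀ v : V, a • v = 0) :
    ∃ ι : Type u, Nonempty (V ≃ₗ[A] (ι →₀ A ⧸ 𝔪)) ∧ (Module.Finite A V → Finite ι) := by
  have ht : Module.IsTorsionBySet A V (𝔪 : Set A) := fun v a => hV a a.2 v
  letI := ht.module
  letI : Field (A ⧸ 𝔪) := Ideal.Quotient.field 𝔪
  haveI : IsScalarTower A (A ⧸ 𝔪) V := ht.isScalarTower
  refine ⟨Module.Free.ChooseBasisIndex (A ⧸ 𝔪) V, ⟨(Module.Free.chooseBasis (A ⧸ 𝔪) V).repr.restrictScalars A⟩, fun h => ?_⟩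
  haveI : Module.Finite (A ⧸ 𝔪) V := Module.Finite.of_restrictScalars_finite A _ _
  infer_instance

variable (A B M) in
/-- tensoring with a module killed by the maximal ideal -/
noncomputable def tensorKilled {V : Type u} [AddCommGroup V] [Module A V] {ι : Type u} (e : V ≃ₗ[A] (ι →₀ A ⧸ 𝔪)) :
    M ⊗[A] V ≃ₗ[B] (ι →₀ EGA4.FibMod A B M) :=
  haveI := Classical.decEq ι
  (AlgebraTensorModule.congr (LinearEquiv.refl B M) e).trans
    ((TensorProduct.finsuppRight A B M (A ⧸ 𝔪) ι).trans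
      (Finsupp.mapRange.linearEquiv (tensorQuot 𝔪).symm))

theorem regular_finsupp {R N ι : Type u} [CommRing R] [AddCommGroup N] [Module R N] {x : R}
    (h : IsSMulRegular N x) : IsSMulRegular (ι →₀ N) x := fun a b hab =>
  Finsupp.ext fun i => h (DFunLike.congr_fun hab i)

theorem regMod_finsupp {R N ι : Type u} [CommRing R] [AddCommGroup N] [Module R N] {x y : R}
    (hr : IsSMulRegular N x) (h : RegMod N x y) : RegMod (ι →₀ N) x y := fun m n hmn => by
  have h0 : ∀ i, ∃ c, m i = x • c := fun i => (h (m i) (n i) (DFunLike.congr_fun hmn i)).elim fun c hc => ⟨c, hc⟩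
  choose c hc using h0
  refine ⟨Finsupp.onFinset m.support c fun i hi => ?_, Finsupp.ext fun i => by simp [hc]⟩
  rw [Finsupp.mem_support_iff]
  intro hm0
  exact hi (hr ((hc i).symm.trans (hm0.trans (smul_zero _).symm)))

variable {J : Ideal B}

/-- The kernel of a base change of an injection is torsion. -/
theorem exists_smul_eq_zero_of_lTensor (hU : ∀ q : PrimeSpectrum B, ¬ J ≤ q.asIdeal → FlatCA.FlatAt A q.asIdeal M)
    {V V' : Type u} [AddCommGroup V] [Module A V] [AddCommGroup V'] [Module A V'] (f : V' →ₗ[A] V)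
    (hf : Function.Injective f) {z : M ⊗[A] V'} (hz : AlgebraTensorModule.lTensor B M f z = 0)
    (q : PrimeSpectrum B) (hq : ¬ J ≤ q.asIdeal) : ∃ s ∉ q.asIdeal, s • z = 0 := by
  haveI : Module.Flat A (LocalizedModule q.asIdeal.primeCompl M) := hU q hq
  let g := LocalizedModule.mkLinearMap q.asIdeal.primeCompl M
  let G := AlgebraTensorModule.rTensor A V' g
  have hcomm : ∀ w : M ⊗[A] V', f.lTensor _ (G w) =
      AlgebraTensorModule.rTensor A V g (AlgebraTensorModule.lTensor B M f w) := fun w => by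
    induction w using TensorProduct.induction_on with
    | zero => simp
    | tmul a b => simp [G]
    | add a b ha hb => simp [ha, hb]
  have h0 : G z = 0 := Module.Flat.lTensor_preserves_injective_linearMap f hf (by
    rw [hcomm, hz, map_zero, map_zero])
  obtain ⟨s, hs⟩ := IsLocalizedModule.exists_of_eq (S := q.asIdeal.primeCompl) (h0.trans (map_zero G).symm)
  exact ⟨s, s.2, by rw [← Submonoid.smul_def, hs, smul_zero]⟩

variable [IsNoetherianRing B]

theorem injective_lTensor_of_regular (hU : ∀ q : PrimeSpectrum B, ¬ J ≤ q.asIdeal → FlatCA.FlatAt A q.asIdeal M)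
    {x : B} (hx : x ∈ J)
    {V V' : Type u} [AddCommGroup V] [Module A V] [AddCommGroup V'] [Module A V'] (f : V' →ₗ[A] V)
    (hf : Function.Injective f) (hr : IsSMulRegular (M ⊗[A] V') x) :
    Function.Injective (AlgebraTensorModule.lTensor B M f) := by
  rw [injective_iff_map_eq_zero]
  intro z hz
  obtain ⟨k, hk⟩ := exists_pow_smul_mem (I := J) (⊥ : Submodule B (M ⊗[A] V')) z fun q hq => by
    obtain ⟨s, hs, h0⟩ := exists_smul_eq_zero_of_lTensor hU f hf hz q hq
    exact ⟨s, hs, (Submodule.mem_bot B).2 h0⟩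
  exact eq_zero_of_regular_of_torsion hr ⟨k, (Submodule.mem_bot B).1 (hk _ (Ideal.pow_mem_pow hx k))⟩

theorem killed_sub {V : Type u} [AddCommGroup V] [Module A V] {n : ℕ}
    (hV : ∀ a ∈ 𝔪 ^ (n + 1), ∀ v : V, a • v = 0) :
    (∀ a ∈ 𝔪, ∀ v : (𝔪 ^ n • ⊤ : Submodule A V), a • v = 0) ∧
      ∀ a ∈ 𝔪 ^ n, ∀ v : V ⧸ (𝔪 ^ n • ⊤ : Submodule A V), a • v = 0 := by
  refine ⟨fun a ha v => Subtype.ext ?_, fun a ha v => ?_⟩
  · show a • (v : V) = 0
    refine Submodule.smul_induction_on (p := fun w => a • w = 0) v.2 (fun b hb w _ => ?_) fun p q hp hq => ?_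
    · rw [smul_smul]
      exact hV _ (by rw [pow_succ']; exact Ideal.mul_mem_mul ha hb) w
    · rw [smul_add, hp, hq, add_zero]
  · obtain ⟨v, rfl⟩ := Submodule.Quotient.mk_surjective _ v
    rw [← Submodule.Quotient.mk_smul, Submodule.Quotient.mk_eq_zero]
    exact Submodule.smul_mem_smul ha trivial

theorem exact_lTensor {V : Type u} [AddCommGroup V] [Module A V] (W : Submodule A V) :
    Function.Exact (AlgebraTensorModule.lTensor B M W.subtype) (AlgebraTensorModule.lTensor B M W.mkQ) ∧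
      Function.Surjective (AlgebraTensorModule.lTensor B M W.mkQ) :=
  ⟨lTensor_exact M (LinearMap.exact_subtype_mkQ W) (Submodule.mkQ_surjective W),
    LinearMap.lTensor_surjective M (Submodule.mkQ_surjective W)⟩

theorem regular_lTensor (hU : ∀ q : PrimeSpectrum B, ¬ J ≤ q.asIdeal → FlatCA.FlatAt A q.asIdeal M)
    {x : B} (hx : x ∈ J) (hr : IsSMulRegular (EGA4.FibMod A B M) x) :
    ∀ (n : ℕ) (V : Type u) [AddCommGroup V] [Module A V], (∀ a ∈ 𝔪 ^ n, ∀ v : V, a • v = 0) →
      IsSMulRegular (M ⊗[A] V) x := by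
  intro n
  induction n with
  | zero =>
    intro V _ _ hV
    haveI : Subsingleton V := ⟨fun a b => by
      rw [← one_smul A a, ← one_smul A b, hV 1 (by simp) a, hV 1 (by simp) b]⟩
    intro a b _
    exact Subsingleton.elim _ _
  | succ n ih =>
    intro V _ _ hV
    obtain ⟨h1, h2⟩ := killed_sub hV
    obtain ⟨ι, ⟨e⟩, -⟩ := exists_finsupp_equiv (A := A) _ h1
    have hW := regular_of_equiv (tensorKilled A B M e).symm (regular_finsupp hr)
    obtain ⟨hex, -⟩ := exact_lTensor (B := B) (M := M) (𝔪 ^ n • ⊤ : Submodule A V)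
    have hQ := ih _ h2
    intro a b hab
    rw [← sub_eq_zero]
    have h0 : x • (a - b) = 0 := by rw [smul_sub]; exact sub_eq_zero.2 hab
    generalize a - b = z at h0 ⊢
    obtain ⟨w, rfl⟩ := (hex z).1 (hQ (by
      change x • _ = x • (0 : M ⊗[A] _)
      rw [smul_zero, ← map_smul, h0, map_zero]))
    rw [← map_smul, ← map_zero (AlgebraTensorModule.lTensor B M (𝔪 ^ n • ⊤ : Submodule A V).subtype)] at h0
    have h3 := injective_lTensor_of_regular hU hx _ (Submodule.injective_subtype _) hW h0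
    rw [hW (h3.trans (smul_zero x).symm), map_zero]

theorem regMod_lTensor (hU : ∀ q : PrimeSpectrum B, ¬ J ≤ q.asIdeal → FlatCA.FlatAt A q.asIdeal M)
    {x y : B} (hx : x ∈ J) (hr : IsSMulRegular (EGA4.FibMod A B M) x) (hm : RegMod (EGA4.FibMod A B M) x y) :
    ∀ (n : ℕ) (V : Type u) [AddCommGroup V] [Module A V], (∀ a ∈ 𝔪 ^ n, ∀ v : V, a • v = 0) →
      RegMod (M ⊗[A] V) x y := by
  intro n
  induction n with
  | zero =>
    intro V _ _ hV
    haveI : Subsingleton V := ⟨fun a b => by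
      rw [← one_smul A a, ← one_smul A b, hV 1 (by simp) a, hV 1 (by simp) b]⟩
    intro a b _
    exact ⟨0, Subsingleton.elim _ _⟩
  | succ n ih =>
    intro V _ _ hV
    obtain ⟨h1, h2⟩ := killed_sub hV
    obtain ⟨ι, ⟨e⟩, -⟩ := exists_finsupp_equiv (A := A) _ h1
    have hW := regular_of_equiv (tensorKilled A B M e).symm (regular_finsupp hr)
    have hWm := regMod_of_equiv (tensorKilled A B M e).symm (regMod_finsupp hr hm)
    obtain ⟨hex, hsurj⟩ := exact_lTensor (B := B) (M := M) (𝔪 ^ n • ⊤ : Submodule A V)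
    let i := AlgebraTensorModule.lTensor B M (𝔪 ^ n • ⊤ : Submodule A V).subtype
    let p := AlgebraTensorModule.lTensor B M (𝔪 ^ n • ⊤ : Submodule A V).mkQ
    have hQr := regular_lTensor hU hx hr n _ h2
    intro a b hab
    obtain ⟨c, hc⟩ := ih _ h2 (p a) (p b) (by rw [← map_smul, hab, map_smul])
    obtain ⟨b', rfl⟩ := hsurj c
    obtain ⟨s, hs⟩ := (hex (a - x • b')).1 (by rw [map_sub, map_smul, ← hc, sub_self])
    obtain ⟨t, ht⟩ := (hex (b - y • b')).1 (hQr (by
      change x • _ = x • (0 : M ⊗[A] _)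
      rw [smul_zero, map_sub, map_smul, smul_sub, smul_comm, ← hc, ← map_smul, ← map_smul, hab, sub_self]))
    obtain ⟨s', hs'⟩ := hWm s t (injective_lTensor_of_regular hU hx _ (Submodule.injective_subtype _) hW (by
      rw [map_smul, map_smul, hs, ht, smul_sub, smul_sub, hab, smul_comm]))
    exact ⟨b' + i s', by rw [smul_add, ← map_smul, ← hs', hs, add_sub_cancel]⟩

theorem killed_quot (n : ℕ) : ∀ a ∈ 𝔪 ^ n, ∀ v : A ⧸ 𝔪 ^ n, a • v = 0 := by
  intro a ha v
  obtain ⟨v, rfl⟩ := Ideal.Quotient.mk_surjective v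
  rw [Algebra.smul_def, Ideal.Quotient.algebraMap_eq, Ideal.Quotient.eq_zero_iff_mem.2 ha, zero_mul]

variable [IsNoetherianRing A] [IsLocalRing B] [IsLocalHom (algebraMap A B)] [Module.Finite B M]

theorem flat_of_one_le (hU : ∀ q : PrimeSpectrum B, ¬ J ≤ q.asIdeal → FlatCA.FlatAt A q.asIdeal M)
    (h1 : 1 ≤ LocCoh.idealDepth J (EGA4.FibMod A B M)) : Module.Flat A M := by
  obtain ⟨x, hx, hr⟩ := exists_regular_of_one_le J _ h1
  refine LocalCrit.flat_of_mulMap_injective B ?_
  haveI : Module.Finite A (𝔪 : Ideal A) := Module.Finite.iff_fg.2 (IsNoetherian.noetherian _)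
  haveI : Module.Finite B (M ⊗[A] (𝔪 : Ideal A)) := FlatAdic.finite_tensor
  suffices h : Function.Injective (AlgebraTensorModule.lTensor B M (𝔪 : Ideal A).subtype) by
    intro a b hab
    apply (TensorProduct.comm A (𝔪 : Ideal A) M).injective
    apply h
    have hc : ∀ w, AlgebraTensorModule.lTensor B M (𝔪 : Ideal A).subtype (TensorProduct.comm A (𝔪 : Ideal A) M w) =
        (TensorProduct.rid A M).symm (LocalCrit.mulMap (𝔪 : Ideal A) M w) := fun w => by
      induction w using TensorProduct.induction_on with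
      | zero => simp
      | tmul p q => simp [← TensorProduct.tmul_smul, TensorProduct.smul_tmul]
      | add p q hp hq => simp [map_add, hp, hq]
    rw [hc, hc, hab]
  rw [injective_iff_map_eq_zero]
  intro z hz
  have hle : EGA4.mB A B ≤ Ideal.jacobson ⊥ := by
    rw [IsLocalRing.jacobson_eq_maximalIdeal (⊥ : Ideal B) bot_ne_top]
    exact IsLocalRing.map_maximalIdeal_le _
  suffices ∀ n : ℕ, z ∈ (EGA4.mB A B) ^ n • (⊤ : Submodule B (M ⊗[A] (𝔪 : Ideal A))) by
    have h2 : z ∈ (⨅ n : ℕ, (EGA4.mB A B) ^ n • ⊤ : Submodule B (M ⊗[A] (𝔪 : Ideal A))) :=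
      (Submodule.mem_iInf _).2 this
    rwa [Ideal.iInf_pow_smul_eq_bot_of_le_jacobson _ hle, Submodule.mem_bot] at h2
  intro n
  let P : Submodule A (𝔪 : Ideal A) := 𝔪 ^ n • ⊤
  have hP : P.map (𝔪 : Ideal A).subtype = 𝔪 ^ (n + 1) := by
    rw [Submodule.map_smul'', Submodule.map_top, Submodule.range_subtype, pow_succ, smul_eq_mul]
  let f : (𝔪 : Ideal A) ⧸ P →ₗ[A] A ⧸ (𝔪 ^ (n + 1) : Ideal A) :=
    Submodule.mapQ P (𝔪 ^ (n + 1) : Ideal A) (𝔪 : Ideal A).subtype (Submodule.map_le_iff_le_comap.1 hP.le)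
  have hf : Function.Injective f := by
    rw [injective_iff_map_eq_zero]
    intro v hv
    obtain ⟨v, rfl⟩ := Submodule.Quotient.mk_surjective _ v
    rw [Submodule.mapQ_apply, Submodule.Quotient.mk_eq_zero, ← hP, Submodule.mem_map] at hv
    obtain ⟨w, hw, hwv⟩ := hv
    exact (Submodule.Quotient.mk_eq_zero P).2 (Subtype.ext hwv ▸ hw)
  have hreg := regular_lTensor hU hx hr n ((𝔪 : Ideal A) ⧸ P) fun a ha v => by
    obtain ⟨v, rfl⟩ := Submodule.Quotient.mk_surjective _ v
    rw [← Submodule.Quotient.mk_smul, Submodule.Quotient.mk_eq_zero]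
    exact Submodule.smul_mem_smul ha trivial
  have hc : ∀ w, AlgebraTensorModule.lTensor B M f (AlgebraTensorModule.lTensor B M P.mkQ w) =
      AlgebraTensorModule.lTensor B M (𝔪 ^ (n + 1) : Ideal A).mkQ
        (AlgebraTensorModule.lTensor B M (𝔪 : Ideal A).subtype w) := fun w => by
    induction w using TensorProduct.induction_on with
    | zero => simp
    | tmul p q => simp [f]
    | add p q hp hq => simp only [map_add, hp, hq]
  obtain ⟨w, rfl⟩ := ((exact_lTensor (B := B) (M := M) P).1 z).1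
    (injective_lTensor_of_regular hU hx f hf hreg (by rw [hc, hz, map_zero, map_zero]))
  clear hz hc
  induction w using TensorProduct.induction_on with
  | zero => simp
  | tmul p q =>
    rw [AlgebraTensorModule.lTensor_tmul, Submodule.subtype_apply, EGA4.mB, ← Ideal.map_pow,
      InjFibre.mem_smul_top_iff]
    refine Submodule.smul_induction_on (p := fun v => p ⊗ₜ[A] v ∈ 𝔪 ^ n • (⊤ : Submodule A (M ⊗[A] (𝔪 : Ideal A))))
      q.2 (fun a ha v _ => ?_) fun v v' hv hv' => ?_
    · rw [tmul_smul]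
      exact Submodule.smul_mem_smul ha trivial
    · rw [tmul_add]; exact add_mem hv hv'
  | add p q hp hq => rw [map_add]; exact add_mem hp hq

theorem two_le_quot_pow (hU : ∀ q : PrimeSpectrum B, ¬ J ≤ q.asIdeal → FlatCA.FlatAt A q.asIdeal M)
    (h2 : 2 ≤ LocCoh.idealDepth J (EGA4.FibMod A B M)) (n : ℕ) :
    2 ≤ LocCoh.idealDepth J (M ⧸ ((EGA4.mB A B) ^ (n + 1) • (⊤ : Submodule B M))) := by
  obtain ⟨x, hx, hr⟩ := exists_regular_of_one_le J _ (le_trans (by norm_num) h2)
  obtain ⟨y, hy, hm⟩ := exists_regMod_of_two_le h2 hx hr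
  rw [EGA4.mB, ← Ideal.map_pow]
  let e := (tensorQuot (B := B) (M := M) (𝔪 ^ (n + 1))).symm
  exact two_le_of_regular hx hy
    (regular_of_equiv e (regular_lTensor hU hx hr (n + 1) _ (killed_quot _)))
    (regMod_of_equiv e (regMod_lTensor hU hx hr hm (n + 1) _ (killed_quot _)))

end Groth.Agent.QGorD
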