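import Groth.Agent.S18725
import Groth.Agent.QGorD.BaseRefl

/-!
Four term sequences with projective middle terms.
-/

universe u

open TensorProduct

namespace Groth.Agent.QGorD

theorem projective_ker_of_surjective {R : Type u} [CommRing R] {P Q : Type u} [AddCommGroup P] [Module R P]
    [AddCommGroup Q] [Module R Q] [Module.Projective R P] [Module.Projective R Q] (f : P →ₗ[R] Q)
    (hf : Function.Surjective f) : Module.Projective R (LinearMap.ker f) := by
  obtain ⟨s, hs⟩ := Module.projective_lifting_property f LinearMap.id hf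
  refine Module.Projective.of_split (LinearMap.ker f).subtype
    ((LinearMap.id - s.comp f).codRestrict (LinearMap.ker f) fun x => ?_) (LinearMap.ext fun x => Subtype.ext ?_)
  · have hx : f x.1 = 0 := x.2
    simp [hx]
  · rw [LinearMap.mem_ker, LinearMap.sub_apply, LinearMap.id_apply, LinearMap.comp_apply, map_sub,
      show f (s (f x)) = f x from LinearMap.congr_fun hs (f x), sub_self]

/-- The kernel of a map of projectives with projective cokernel is projective. -/
theorem projective_of_fourTerm {R : Type u} [CommRing R] {K P0 P1 Q : Type u} [AddCommGroup K] [Module R K]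
    [AddCommGroup P0] [Module R P0] [AddCommGroup P1] [Module R P1] [AddCommGroup Q] [Module R Q]
    [Module.Projective R P0] [Module.Projective R P1] [Module.Projective R Q]
    {i : K →ₗ[R] P0} {u : P0 →ₗ[R] P1} {v : P1 →ₗ[R] Q} (hi : Function.Injective i) (hiu : Function.Exact i u)
    (huv : Function.Exact u v) (hv : Function.Surjective v) : Module.Projective R K := by
  haveI := projective_ker_of_surjective v hv
  haveI : Module.Projective R (LinearMap.range u) :=
    Module.Projective.of_equiv (LinearEquiv.ofEq _ _ (LinearMap.exact_iff.1 huv))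
  haveI : Module.Projective R (LinearMap.ker u.rangeRestrict) :=
    projective_ker_of_surjective (Q := LinearMap.range u) u.rangeRestrict u.surjective_rangeRestrict
  have h : LinearMap.ker u.rangeRestrict = LinearMap.range i := by
    rw [LinearMap.ker_rangeRestrict, LinearMap.exact_iff.1 hiu]
  exact Module.Projective.of_equiv ((LinearEquiv.ofEq _ _ h).trans (LinearEquiv.ofInjective i hi).symm)

theorem projective_localized_of_fourTerm {R : Type u} [CommRing R] {K P0 P1 Q : Type u} [AddCommGroup K] [Module R K]
    [AddCommGroup P0] [Module R P0] [AddCommGroup P1] [Module R P1] [AddCommGroup Q] [Module R Q]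
    [Module.Projective R P0] [Module.Projective R P1] (q : Ideal R) [q.IsPrime]
    (hQ : Module.Projective (Localization.AtPrime q) (LocalizedModule q.primeCompl Q))
    {i : K →ₗ[R] P0} {u : P0 →ₗ[R] P1} {v : P1 →ₗ[R] Q} (hi : Function.Injective i) (hiu : Function.Exact i u)
    (huv : Function.Exact u v) (hv : Function.Surjective v) :
    Module.Projective (Localization.AtPrime q) (LocalizedModule q.primeCompl K) := by
  haveI := hQ
  haveI : Module.Projective (Localization.AtPrime q) (LocalizedModule q.primeCompl P0) :=
    Module.projective_of_isLocalizedModule q.primeCompl (LocalizedModule.mkLinearMap q.primeCompl _)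
  haveI : Module.Projective (Localization.AtPrime q) (LocalizedModule q.primeCompl P1) :=
    Module.projective_of_isLocalizedModule q.primeCompl (LocalizedModule.mkLinearMap q.primeCompl _)
  exact projective_of_fourTerm (u := LocalizedModule.map q.primeCompl u) (v := LocalizedModule.map q.primeCompl v) (LocalizedModule.map_injective q.primeCompl i hi)
    (LocalizedModule.map_exact q.primeCompl i u hiu) (LocalizedModule.map_exact q.primeCompl u v huv)
    (LocalizedModule.map_surjective q.primeCompl v hv)

theorem reflexive_and_depth_of_fourTerm {R : Type u} [CommRing R] [IsNoetherianRing R] {K P0 P1 Q : Type u}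
    [AddCommGroup K] [Module R K] [Module.Finite R K] [AddCommGroup P0] [Module R P0] [Module.Finite R P0]
    [AddCommGroup P1] [Module R P1] [Module.Finite R P1] [AddCommGroup Q] [Module R Q]
    [Module.Projective R P0] [Module.Projective R P1] (I : Ideal R) (hR : 2 ≤ LocCoh.idealDepth I R)
    (hQ : ∀ q : PrimeSpectrum R, ¬ I ≤ q.asIdeal →
      Module.Free (Localization.AtPrime q.asIdeal) (LocalizedModule q.asIdeal.primeCompl Q))
    {i : K →ₗ[R] P0} {u : P0 →ₗ[R] P1} {v : P1 →ₗ[R] Q} (hi : Function.Injective i) (hiu : Function.Exact i u)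
    (huv : Function.Exact u v) (hv : Function.Surjective v) :
    Module.IsReflexive R K ∧ 2 ≤ LocCoh.idealDepth I K := by
  have hd : 2 ≤ LocCoh.idealDepth I K := two_le_of_kernel i hi u hiu (le_idealDepth_of_isReflexive P0 2 le_rfl hR)
    (by exact_mod_cast le_idealDepth_of_isReflexive P1 1 (by omega) (le_trans (by norm_num) hR))
  refine ⟨isReflexive_of_two_le (le_trans (by norm_num) hR) K (fun q hq => ?_) hd, hd⟩
  haveI := hQ q hq
  haveI := projective_localized_of_fourTerm q.asIdeal inferInstance hi hiu huv hv
  haveI : Module.Finite (Localization.AtPrime q.asIdeal) (LocalizedModule q.asIdeal.primeCompl K) :=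
    Module.Finite.of_isLocalizedModule q.asIdeal.primeCompl (LocalizedModule.mkLinearMap q.asIdeal.primeCompl K)
  infer_instance

variable {A B : Type u} [CommRing A] [CommRing B] [Algebra A B] [IsNoetherianRing B]

/-- Fibre depth of a finite projective module. -/
theorem le_fib_of_projective [IsNoetherianRing A] (E : Type u) [AddCommGroup E] [Module B E] [Module.Finite B E]
    [Module.Projective B E] (q : Ideal B) [q.IsPrime] (k : ℕ) (hk : k ≤ 2)
    (h : (k : ℕ∞) ≤ LocCoh.idealDepth (q.map (algebraMap B (EGA4.FibLocRing A B q))) (EGA4.FibLocRing A B q)) :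
    (k : ℕ∞) ≤ LocCoh.idealDepth (q.map (algebraMap B (EGA4.FibLocRing A B q))) (EGA4.FibLocMod A B q E) := by
  haveI : Module.Projective (Localization.AtPrime q) (LocalizedModule q.primeCompl E) :=
    Module.projective_of_isLocalizedModule q.primeCompl (LocalizedModule.mkLinearMap q.primeCompl E)
  haveI : Module.Finite (Localization.AtPrime q) (LocalizedModule q.primeCompl E) :=
    Module.Finite.of_isLocalizedModule q.primeCompl (LocalizedModule.mkLinearMap q.primeCompl E)
  haveI : Module.Free (Localization.AtPrime q) (LocalizedModule q.primeCompl E) :=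
    Module.free_of_flat_of_isLocalRing
  let I := (q.comap (algebraMap A B)).map (algebraMap A (Localization.AtPrime q))
  let bas := Module.Free.chooseBasis (Localization.AtPrime q) (LocalizedModule q.primeCompl E)
  let bas' := bas.reindex (Fintype.equivFin _)
  let e1 : EGA4.FibLocRing A B q ⊗[Localization.AtPrime q] LocalizedModule q.primeCompl E ≃ₗ[EGA4.FibLocRing A B q]
      EGA4.FibLocMod A B q E :=
    LinearEquiv.extendScalarsOfSurjective (R := Localization.AtPrime q) Ideal.Quotient.mk_surjective
      (TensorProduct.quotTensorEquivQuotSMul (LocalizedModule q.primeCompl E) I)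
  let e2 := (bas'.baseChange (EGA4.FibLocRing A B q)).equivFun
  rw [← LocH.idealDepth_congr (e2.symm.trans e1) _]
  exact le_idealDepth_pi _ k hk h

theorem two_le_mono {R : Type u} [CommRing R] [IsNoetherianRing R] {I I' : Ideal R} (hle : I ≤ I') {M : Type u}
    [AddCommGroup M] [Module R M] [Module.Finite R M] (h : 2 ≤ LocCoh.idealDepth I M) : 2 ≤ LocCoh.idealDepth I' M := by
  obtain ⟨x, hx, hr⟩ := exists_regular_of_one_le I M (le_trans (by norm_num) h)
  obtain ⟨y, hy, hm⟩ := exists_regMod_of_two_le h hx hr
  exact two_le_of_regular (hle hx) (hle hy) hr hm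

variable {F E0 E1 G : Type u} [AddCommGroup F] [Module B F] [Module A F] [IsScalarTower A B F] [Module.Finite B F]
  [AddCommGroup E0] [Module B E0] [Module A E0] [IsScalarTower A B E0] [Module.Finite B E0] [Module.Flat A E0]
  [AddCommGroup E1] [Module B E1] [Module A E1] [IsScalarTower A B E1] [Module.Finite B E1] [Module.Flat A E1]
  [AddCommGroup G] [Module B G] [Module A G] [IsScalarTower A B G] [Module.Finite B G]
  {f : F →ₗ[B] E0} {u : E0 →ₗ[B] E1} {v : E1 →ₗ[B] G}

/-- Flatness and fibre depth along `J` everywhere against flatness of the cokernel. -/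
theorem flat_depth_iff [IsNoetherianRing A] (hf : Function.Injective f) (hfu : Function.Exact f u)
    (huv : Function.Exact u v) (hv : Function.Surjective v) (J : Ideal B)
    (hGU : ∀ q : PrimeSpectrum B, ¬ J ≤ q.asIdeal → FlatCA.FlatAt A q.asIdeal G)
    (h0 : ∀ q : PrimeSpectrum B, J ≤ q.asIdeal →
      2 ≤ LocCoh.idealDepth (q.asIdeal.map (algebraMap B (EGA4.FibLocRing A B q.asIdeal))) (EGA4.FibLocMod A B q.asIdeal E0))
    (h1 : ∀ q : PrimeSpectrum B, J ≤ q.asIdeal →
      1 ≤ LocCoh.idealDepth (q.asIdeal.map (algebraMap B (EGA4.FibLocRing A B q.asIdeal))) (EGA4.FibLocMod A B q.asIdeal E1)) :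
    (∀ q : PrimeSpectrum B, FlatCA.FlatAt A q.asIdeal F ∧
      2 ≤ LocCoh.idealDepth (J.map (algebraMap B (EGA4.FibLocRing A B q.asIdeal))) (EGA4.FibLocMod A B q.asIdeal F)) ↔
    Module.Flat A G := by
  constructor
  · intro h
    have hall : ∀ q : PrimeSpectrum B, FlatCA.FlatAt A q.asIdeal G := fun q =>
      (S18725.local_iff hf hfu huv hv J hGU h0 h1 q.asIdeal).2 fun r hJ _ => by
        haveI : Module.Finite (EGA4.FibLocRing A B r.asIdeal) (EGA4.FibLocMod A B r.asIdeal F) :=
          Module.Finite.of_restrictScalars_finite (Localization.AtPrime r.asIdeal) _ _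
        exact two_le_mono (Ideal.map_mono hJ) (h r).2
    exact Module.flat_of_isLocalized_maximal (R := A) B G (fun P _ => LocalizedModule P.primeCompl G)
      (fun P _ => LocalizedModule.mkLinearMap P.primeCompl G) fun P hP => hall ⟨P, hP.isPrime⟩
  · intro hG q
    have hG' : ∀ r : PrimeSpectrum B, FlatCA.FlatAt A r.asIdeal G := fun r => flatAt_of_flat r.asIdeal
    refine ⟨flatAt_left hf hfu huv hv q.asIdeal (hG' q), ?_⟩
    haveI : Module.Finite (EGA4.FibLocRing A B q.asIdeal) (EGA4.FibLocMod A B q.asIdeal F) :=
      Module.Finite.of_restrictScalars_finite (Localization.AtPrime q.asIdeal) _ _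
    rw [IsScalarTower.algebraMap_eq B (Localization.AtPrime q.asIdeal) (EGA4.FibLocRing A B q.asIdeal), ← Ideal.map_map,
      ← LocH.idealDepth_map_eq]
    exact le_idealDepth_fib F J q.asIdeal 2 fun r hJ _ => (S18725.local_iff hf hfu huv hv J hGU h0 h1 r.asIdeal).1 hJ (hG' r)

end Groth.Agent.QGorD
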