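import Groth.Agent.QGorD.FourTerm
import Groth.Agent.LocH.Noetherian
import Groth.Agent.LocH.NonVanishing
import Groth.Agent.LocH.Vanishing
import Groth.Agent.LocH.Localize

/-!
Lifting kernels of the middle map through infinitesimal thickenings when the second local cohomology of
the closed fibre vanishes.
-/

universe u

open TensorProduct CategoryTheory

namespace Groth.Agent.QGorD

section LocalCohomology

variable {R : Type u} [CommRing R] [IsNoetherianRing R] {I : Ideal R}

omit [IsNoetherianRing R] in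
theorem subsingleton_H_of_equiv {X Y : Type u} [AddCommGroup X] [Module R X] [AddCommGroup Y] [Module R Y]
    (e : X ≃ₗ[R] Y) (i : ℕ) (h : Subsingleton (LocCoh.H I i X)) : Subsingleton (LocCoh.H I i Y) :=
  (LocH.subsingleton_iff_of_iso I i (X := ModuleCat.of R X) (Y := ModuleCat.of R Y) e.toModuleIso).1 h

omit [IsNoetherianRing R] in
theorem subsingleton_H_finsupp {X ι : Type u} [AddCommGroup X] [Module R X] [Finite ι] {i : ℕ}
    (h : Subsingleton (LocCoh.H I i X)) : Subsingleton (LocCoh.H I i (ι →₀ X)) := by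
  haveI := Fintype.ofFinite ι
  let p : ι → (ModuleCat.of R (ι →₀ X) ⟶ ModuleCat.of R X) := fun j => ModuleCat.ofHom (Finsupp.lapply j)
  let e : ι → (ModuleCat.of R X ⟶ ModuleCat.of R (ι →₀ X)) := fun j => ModuleCat.ofHom (Finsupp.lsingle j)
  have hid : 𝟙 (ModuleCat.of R (ι →₀ X)) = ∑ j, p j ≫ e j := by
    refine ModuleCat.hom_ext (LinearMap.ext fun f => ?_)
    rw [ModuleCat.hom_sum, LinearMap.sum_apply]
    exact (Finsupp.univ_sum_single f).symm
  refine subsingleton_of_forall_eq 0 fun x => ?_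
  have := congrArg (fun φ => φ.hom x) ((localCohomology I i).map_id (ModuleCat.of R (ι →₀ X)))
  rw [hid, Functor.map_sum, ModuleCat.hom_sum, LinearMap.sum_apply] at this
  refine this.symm.trans (Finset.sum_eq_zero fun j _ => ?_)
  rw [Functor.map_comp]
  show (localCohomology I i).map (e j) ((localCohomology I i).map (p j) x) = 0
  rw [h.elim ((localCohomology I i).map (p j) x) 0, map_zero]

/-- `H^{i+1}` only sees a module up to torsion kernels and cokernels. -/
theorem subsingleton_H_succ_of_torsion {X Y : Type u} [AddCommGroup X] [Module R X] [AddCommGroup Y] [Module R Y]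
    (φ : X →ₗ[R] Y) (hk : ∀ x, φ x = 0 → ∃ n : ℕ, ∀ a ∈ I ^ n, a • x = 0)
    (hc : ∀ y, ∃ n : ℕ, ∀ a ∈ I ^ n, a • y ∈ LinearMap.range φ) (i : ℕ)
    (h : Subsingleton (LocCoh.H I (i + 1) X)) : Subsingleton (LocCoh.H I (i + 1) Y) := by
  have h1 : Subsingleton (LocCoh.H I (i + 1) (LinearMap.range φ)) :=
    LocH.subsingleton_X₃ (LocH.kerSES_shortExact (g := φ.rangeRestrict) φ.surjective_rangeRestrict) (i + 1) h
      (LocH.subsingleton_of_isPowerTorsion (i + 1) (ModuleCat.of R (LinearMap.ker φ.rangeRestrict)) fun x => by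
        obtain ⟨n, hn⟩ := hk x.1 (congrArg Subtype.val x.2)
        exact ⟨n, fun a ha => Subtype.ext (hn a ha)⟩)
  have h2 : Subsingleton (LocCoh.H I (i + 1) (LinearMap.ker (LinearMap.range φ).mkQ)) :=
    subsingleton_H_of_equiv (LinearEquiv.ofEq _ _ (Submodule.ker_mkQ _).symm) _ h1
  refine LocH.subsingleton_X₂ (LocH.kerSES_shortExact (Submodule.mkQ_surjective (LinearMap.range φ))) (i + 1) h2
    (LocH.subsingleton_of_isPowerTorsion i (ModuleCat.of R (Y ⧸ LinearMap.range φ)) fun y => ?_)
  obtain ⟨y, rfl⟩ := Submodule.Quotient.mk_surjective _ y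
  obtain ⟨n, hn⟩ := hc y
  exact ⟨n, fun a ha => (Submodule.Quotient.mk_eq_zero _).2 (hn a ha)⟩

end LocalCohomology

variable {A B : Type u} [CommRing A] [CommRing B] [IsLocalRing A] [Algebra A B]
  {F E0 E1 G : Type u} [AddCommGroup F] [Module B F] [Module A F] [IsScalarTower A B F]
  [AddCommGroup E0] [Module B E0] [Module A E0] [IsScalarTower A B E0] [Module.Flat A E0]
  [AddCommGroup E1] [Module B E1] [Module A E1] [IsScalarTower A B E1] [Module.Flat A E1]
  [AddCommGroup G] [Module B G] [Module A G] [IsScalarTower A B G]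
  [IsNoetherianRing A] [IsNoetherianRing B] [IsLocalRing B] [IsLocalHom (algebraMap A B)]
  [Module.Finite B F] [Module.Finite B E0] [Module.Finite B E1]
  {f : F →ₗ[B] E0} {u : E0 →ₗ[B] E1} {v : E1 →ₗ[B] G}
  {J : Ideal B}

local notation "𝔪" => IsLocalRing.maximalIdeal A

theorem exists_lift_ker (hf : Function.Injective f) (hfu : Function.Exact f u) (huv : Function.Exact u v)
    (hv : Function.Surjective v) (hGU : ∀ q : PrimeSpectrum B, ¬ J ≤ q.asIdeal → FlatCA.FlatAt A q.asIdeal G)
    (h0 : 2 ≤ LocCoh.idealDepth J (EGA4.FibMod A B E0)) (h1 : 1 ≤ LocCoh.idealDepth J (EGA4.FibMod A B E1))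
    (hH2 : Subsingleton (LocCoh.H J 2 (EGA4.FibMod A B F)))
    (n : ℕ) (V : Type u) [AddCommGroup V] [Module A V] [Module.Finite A V] (hV : ∀ a ∈ 𝔪 ^ n, ∀ v : V, a • v = 0)
    (W : Submodule A V) (hW : ∀ a ∈ 𝔪, ∀ w : W, a • w = 0) {z : E0 ⊗[A] (V ⧸ W)}
    (hz : AlgebraTensorModule.rTensor A (V ⧸ W) u z = 0) :
    ∃ z' : E0 ⊗[A] V, AlgebraTensorModule.rTensor A V u z' = 0 ∧ AlgebraTensorModule.lTensor B E0 W.mkQ z' = z := by
  haveI : Module.Finite A W := Module.IsNoetherian.finite A W
  haveI : Module.Finite B (E0 ⊗[A] V) := FlatAdic.finite_tensor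
  haveI : Module.Finite B (E1 ⊗[A] V) := FlatAdic.finite_tensor
  haveI : Module.Finite B (E0 ⊗[A] (V ⧸ W)) := FlatAdic.finite_tensor
  have hU0 : ∀ q : PrimeSpectrum B, ¬ J ≤ q.asIdeal → FlatCA.FlatAt A q.asIdeal E0 := fun q _ => flatAt_of_flat q.asIdeal
  have hU1 : ∀ q : PrimeSpectrum B, ¬ J ≤ q.asIdeal → FlatCA.FlatAt A q.asIdeal E1 := fun q _ => flatAt_of_flat q.asIdeal
  obtain ⟨x, hx, hr0, hr1⟩ := exists_regular_both J _ _ (le_trans (by norm_num) h0) h1
  obtain ⟨y, hy, hm0⟩ := exists_regMod_of_two_le h0 hx hr0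
  have hVW : ∀ a ∈ 𝔪 ^ n, ∀ w : V ⧸ W, a • w = 0 := fun a ha w => by
    obtain ⟨w, rfl⟩ := Submodule.Quotient.mk_surjective _ w
    rw [← Submodule.Quotient.mk_smul, hV a ha, Submodule.Quotient.mk_zero]
  have hrV0 := regular_lTensor hU0 hx hr0 n V hV
  have hrV1 := regular_lTensor hU1 hx hr1 n V hV
  have hrQ0 := regular_lTensor hU0 hx hr0 n (V ⧸ W) hVW
  let uV := AlgebraTensorModule.rTensor A V u
  let uW := AlgebraTensorModule.rTensor A W u
  let uQ := AlgebraTensorModule.rTensor A (V ⧸ W) u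
  let fQ := AlgebraTensorModule.rTensor A (V ⧸ W) f
  let π0 := AlgebraTensorModule.lTensor B E0 W.mkQ
  let ι0 := AlgebraTensorModule.lTensor B E0 W.subtype
  let ι1 := AlgebraTensorModule.lTensor B E1 W.subtype
  have hπu : ∀ w, uQ (π0 w) = AlgebraTensorModule.lTensor B E1 W.mkQ (uV w) := fun w => by
    induction w using TensorProduct.induction_on with
    | zero => simp
    | tmul p q => simp [uQ, π0, uV]
    | add p q hp hq => simp only [map_add, hp, hq]
  have hιu : ∀ w, ι1 (uW w) = uV (ι0 w) := fun w => by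
    induction w using TensorProduct.induction_on with
    | zero => simp
    | tmul p q => simp [uW, ι1, uV, ι0]
    | add p q hp hq => simp only [map_add, hp, hq]
  let K := LinearMap.ker uV
  have hK : 2 ≤ LocCoh.idealDepth J K :=
    two_le_of_kernel K.subtype (Submodule.injective_subtype _) uV (LinearMap.exact_subtype_ker_map uV)
      (two_le_of_regular hx hy hrV0 (regMod_lTensor hU0 hx hr0 hm0 n V hV)) (one_le_of_regular hx hrV1)
  -- the second local cohomology of the kernel on the graded piece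
  have hKW : Subsingleton (LocCoh.H J 2 (LinearMap.ker uW)) := by
    obtain ⟨ι, ⟨e⟩, hfin⟩ := exists_finsupp_equiv (A := A) W hW
    haveI := hfin inferInstance
    have hFW : Subsingleton (LocCoh.H J 2 (F ⊗[A] W)) :=
      subsingleton_H_of_equiv (tensorKilled A B F e).symm 2 (subsingleton_H_finsupp hH2)
    let φ : F ⊗[A] W →ₗ[B] LinearMap.ker uW := (AlgebraTensorModule.rTensor A W f).codRestrict _ fun w => by
      rw [LinearMap.mem_ker]
      induction w using TensorProduct.induction_on with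
      | zero => simp
      | tmul p q => simp [uW, hfu.apply_apply_eq_zero]
      | add p q hp hq => simp only [map_add, hp, hq, add_zero]
    refine subsingleton_H_succ_of_torsion φ (fun w hw => ?_) (fun w => ?_) 1 hFW
    · obtain ⟨k, hk⟩ := exists_pow_smul_mem (I := J) (⊥ : Submodule B (F ⊗[A] W)) w fun q hq => by
        obtain ⟨s, hs, h⟩ := exists_smul_eq_zero_of_rTensor (π := u.rangeRestrict) hf u.surjective_rangeRestrict
          (exact_rangeRestrict hfu) q.asIdeal
          (flatAt_of_flat_coker (Submodule.injective_subtype _) hv (exact_subtype_range huv) q.asIdeal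
            (flatAt_of_flat q.asIdeal) (hGU q hq)) (z := w) (congrArg Subtype.val hw)
        exact ⟨s, hs, (Submodule.mem_bot B).2 h⟩
      exact ⟨k, fun a ha => (Submodule.mem_bot B).1 (hk a ha)⟩
    · exact exists_pow_smul_mem (I := J) (LinearMap.range φ) w fun q hq => by
        obtain ⟨s, hs, g, hg⟩ := exists_smul_mem_range hfu huv hv q.asIdeal (hGU q hq) (z := (w : E0 ⊗[A] W)) w.2
        exact ⟨s, hs, g, Subtype.ext hg⟩
  let p : K →ₗ[B] E0 ⊗[A] (V ⧸ W) := π0.comp K.subtype
  let Z := LinearMap.range p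
  haveI : Module.Finite B Z := Module.Finite.range p
  -- the image of the kernel has depth at least two
  have hZ : 2 ≤ LocCoh.idealDepth J Z := by
    have hrZ : IsSMulRegular Z x := hrQ0.of_injective Z.subtype (Submodule.injective_subtype _)
    let φ : LinearMap.ker uW →ₗ[B] LinearMap.ker p.rangeRestrict :=
      LinearMap.codRestrict _ (LinearMap.codRestrict K (ι0.comp (LinearMap.ker uW).subtype) fun w => by
        show uV (ι0 w.1) = 0
        rw [← hιu, show uW w.1 = 0 from w.2, map_zero]) fun w => by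
        refine Subtype.ext ?_
        show π0 (ι0 w.1) = 0
        exact (exact_lTensor (B := B) (M := E0) W).1.apply_apply_eq_zero _
    have hφ : Function.Bijective φ := by
      refine ⟨fun a b hab => Subtype.ext ?_, fun k => ?_⟩
      · exact Module.Flat.lTensor_preserves_injective_linearMap (M := E0) W.subtype W.injective_subtype
          (congrArg Subtype.val (congrArg Subtype.val hab))
      · obtain ⟨w, hw⟩ := ((exact_lTensor (B := B) (M := E0) W).1 ((k : K) : E0 ⊗[A] V)).1 (congrArg Subtype.val k.2)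
        have hw0 : uW w = 0 := by
          apply Module.Flat.lTensor_preserves_injective_linearMap (M := E1) W.subtype W.injective_subtype
          rw [map_zero]
          exact (hιu w).trans ((congrArg uV hw).trans (k : K).2)
        exact ⟨⟨w, hw0⟩, Subtype.ext (Subtype.ext hw)⟩
    have hker : Subsingleton (LocCoh.H J 2 (LinearMap.ker p.rangeRestrict)) :=
      subsingleton_H_of_equiv (LinearEquiv.ofBijective φ hφ) 2 hKW
    have hK1 : Subsingleton (LocCoh.H J 1 K) :=
      (LocH.le_idealDepth_iff J K 2).1 (by exact_mod_cast hK) 1 (by omega)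
    have hZ1 : Subsingleton (LocCoh.H J 1 Z) :=
      LocH.subsingleton_X₃ (LocH.kerSES_shortExact (g := p.rangeRestrict) p.surjective_rangeRestrict) 1 hK1 hker
    have hZ0 : Subsingleton (LocCoh.H J 0 Z) :=
      (LocH.le_idealDepth_iff J Z 1).1 (by exact_mod_cast one_le_of_regular hx hrZ) 0 (by omega)
    have := (LocH.le_idealDepth_iff J Z 2).2 fun i hi => by
      rcases (show i = 0 ∨ i = 1 by omega) with rfl | rfl
      exacts [hZ0, hZ1]
    exact_mod_cast this
  -- the image contains every element of the kernel after multiplying by a power of `J`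
  obtain ⟨⟨_, k, rfl⟩, hk⟩ : z ∈ LinearMap.range Z.subtype := by
    refine mem_range_of_torsion Z.subtype (Submodule.injective_subtype _) hZ hx
      (hrQ0.of_injective Z.subtype (Submodule.injective_subtype _)) hrQ0 fun a ha => ?_
    obtain ⟨k, hk⟩ := exists_pow_smul_mem (I := J) (LinearMap.range Z.subtype) z fun q hq => by
      obtain ⟨s, hs, g, hg⟩ := exists_smul_mem_range hfu huv hv q.asIdeal (hGU q hq) hz
      obtain ⟨g', rfl⟩ := (exact_lTensor (B := B) (M := F) W).2 g
      have hc : ∀ w, π0 (AlgebraTensorModule.rTensor A V f w) =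
          AlgebraTensorModule.rTensor A (V ⧸ W) f (AlgebraTensorModule.lTensor B F W.mkQ w) := fun w => by
        induction w using TensorProduct.induction_on with
        | zero => simp
        | tmul p q => simp [π0]
        | add p q hp hq => simp only [map_add, hp, hq]
      have hker : uV (AlgebraTensorModule.rTensor A V f g') = 0 := by
        clear hg hc
        induction g' using TensorProduct.induction_on with
        | zero => simp
        | tmul p q => simp [uV, hfu.apply_apply_eq_zero]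
        | add p q hp hq => simp only [map_add, hp, hq, add_zero]
      exact ⟨s, hs, ⟨s • z, ⟨⟨_, hker⟩, (hc g').trans hg⟩⟩, rfl⟩
    exact ⟨k, hk _ (Ideal.pow_mem_pow ha k)⟩
  exact ⟨k.1, k.2, hk⟩

theorem middle_exact_of_H2 (hf : Function.Injective f) (hfu : Function.Exact f u) (huv : Function.Exact u v)
    (hv : Function.Surjective v) (hGU : ∀ q : PrimeSpectrum B, ¬ J ≤ q.asIdeal → FlatCA.FlatAt A q.asIdeal G)
    (h0 : 2 ≤ LocCoh.idealDepth J (EGA4.FibMod A B E0)) (h1 : 1 ≤ LocCoh.idealDepth J (EGA4.FibMod A B E1))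
    (hH2 : Subsingleton (LocCoh.H J 2 (EGA4.FibMod A B F)))
    (e : E0) (he : u e ∈ EGA4.mB A B • (⊤ : Submodule B E1)) :
    ∃ x : F, e - f x ∈ EGA4.mB A B • (⊤ : Submodule B E0) := by
  have hlift : ∀ n : ℕ, ∃ e' : E0, e' - e ∈ EGA4.mB A B • (⊤ : Submodule B E0) ∧
      u e' ∈ (𝔪 ^ (n + 1)).map (algebraMap A B) • (⊤ : Submodule B E1) := by
    intro n
    induction n with
    | zero => exact ⟨e, by rw [sub_self]; exact zero_mem _, by rw [zero_add, pow_one]; exact he⟩
    | succ n ih =>
      obtain ⟨e', he', hue'⟩ := ih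
      let W : Submodule A (A ⧸ 𝔪 ^ (n + 2)) := 𝔪 ^ (n + 1) • ⊤
      haveI : Module.Finite A (A ⧸ 𝔪 ^ (n + 2)) := inferInstance
      obtain ⟨h1', -⟩ := killed_sub (n := n + 1) (killed_quot (A := A) (n + 1 + 1))
      let c : (A ⧸ 𝔪 ^ (n + 2)) ⧸ W := W.mkQ 1
      have hz : AlgebraTensorModule.rTensor A _ u (e' ⊗ₜ[A] c) = 0 := by
        rw [AlgebraTensorModule.rTensor_tmul]
        rw [InjFibre.mem_smul_top_iff] at hue'
        refine Submodule.smul_induction_on (p := fun w => w ⊗ₜ[A] c = 0) hue' (fun a ha w _ => ?_) fun p q hp hq => ?_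
        · rw [TensorProduct.smul_tmul, ← map_smul W.mkQ, Submodule.mkQ_apply,
            (Submodule.Quotient.mk_eq_zero W).2 (Submodule.smul_mem_smul ha trivial), tmul_zero]
        · rw [add_tmul, hp, hq, add_zero]
      obtain ⟨z', hz', hπ⟩ := exists_lift_ker hf hfu huv hv hGU h0 h1 hH2 (n + 2) _ (killed_quot (n + 2)) W h1' hz
      obtain ⟨e'', rfl⟩ := mk_one_surjective (B := B) (M := E0) (𝔪 ^ (n + 2)) z'
      refine ⟨e'', ?_, (tmul_one_eq_zero_iff _ _).1 hz'⟩
      have hle : (𝔪 ^ (n + 1)).map (algebraMap A B) • (⊤ : Submodule B E0) ≤ EGA4.mB A B • ⊤ :=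
        Submodule.smul_mono_left (Ideal.map_mono (Ideal.pow_le_self n.succ_ne_zero))
      rw [← sub_add_sub_cancel e'' e' e]
      refine add_mem (hle ?_) he'
      rw [← tmul_one_eq_zero_iff]
      let g : (A ⧸ 𝔪 ^ (n + 2)) ⧸ W →ₗ[A] A ⧸ 𝔪 ^ (n + 1) :=
        W.liftQ (Submodule.factor (Ideal.pow_le_pow_right (n + 1).le_succ)) <| by
          rw [Submodule.smul_le]
          intro a ha w _
          rw [LinearMap.mem_ker, map_smul]
          exact killed_quot (n + 1) a ha _
      have hg : g c = 1 := rfl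
      have h3 : (AlgebraTensorModule.lTensor B E0 g) ((e'' - e') ⊗ₜ c) = 0 := by
        rw [sub_tmul, ← hπ]
        simp [c]
      rwa [AlgebraTensorModule.lTensor_tmul, hg] at h3
  obtain ⟨c, hc⟩ := Ideal.exists_pow_inf_eq_pow_smul (EGA4.mB A B) (LinearMap.range u)
  obtain ⟨e', he', hue'⟩ := hlift c
  rw [Ideal.map_pow] at hue'
  have hmem : u e' ∈ (EGA4.mB A B) ^ (c + 1) • ⊤ ⊓ LinearMap.range u := ⟨hue', e', rfl⟩
  rw [hc (c + 1) c.le_succ, Nat.add_sub_cancel_left, pow_one] at hmem
  have h4 : u e' ∈ EGA4.mB A B • LinearMap.range u := Submodule.smul_mono le_rfl inf_le_right hmem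
  rw [LinearMap.range_eq_map, ← Submodule.map_smul''] at h4
  obtain ⟨e₁, he₁, heq⟩ := h4
  obtain ⟨x, hx⟩ := (hfu (e' - e₁)).1 (by rw [map_sub, heq, sub_self])
  exact ⟨x, by rw [hx, show e - (e' - e₁) = e₁ - (e' - e) by abel]; exact sub_mem he₁ he'⟩

end Groth.Agent.QGorD
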